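import Groth.Agent.SpecVan49.Main

/-!
Cohomological dimension of spectral spaces.
-/

universe u

open CategoryTheory Limits TopologicalSpace Opposite Abelian Topology
open Groth.Agent.TopCoh49

namespace Groth.Agent.SpecVan49

/-- Classes killed on a finite family of compact opens covering the space vanish in high degrees. -/
theorem eq_zero_of_cover {d : ℕ} (hT : ∀ e ≤ d, VD.{u} e) {p : ℕ} (hp : d + 1 ≤ p) :
    ∀ (n : ℕ) (X : TopCat.{u}) [SpectralSpace X], DimLT (Set.univ : Set X) (d + 1) →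
      ∀ (U : Fin n → Opens X), (∀ k, IsCompact (U k : Set X)) → ⊤ ≤ iSup U →
        ∀ (F : CohTop.Ab X) (ξ : E F p ⊤), (∀ k, eres F p (le_top : U k ≤ ⊤) ξ = 0) → ξ = 0 := by
  intro n
  induction n with
  | zero =>
    intro X _ hdim U _ hcov F ξ _
    have e : (⊤ : Opens X) = ⊥ := top_le_iff.1 hcov ▸ iSup_of_empty U
    have : Subsingleton (E F p ⊤) := by rw [e]; exact subsingleton_E_bot F p
    exact Subsingleton.elim _ _
  | succ n ih =>
    intro X _ hdim U hUc hcov F ξ hξ
    let V : Opens X := ⨆ k : Fin n, U k.succ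
    have hVc : IsCompact (V : Set X) := by
      change IsCompact ((⨆ k : Fin n, U k.succ : Opens X) : Set X)
      rw [Opens.coe_iSup]
      exact isCompact_iUnion fun k => hUc _
    have hUV : ⊤ ≤ U 0 ⊔ V := fun x hx => by
      obtain ⟨k, hk⟩ := Opens.mem_iSup.1 (hcov hx)
      induction k using Fin.cases with
      | zero => exact Or.inl hk
      | succ k => exact Or.inr (Opens.mem_iSup.2 ⟨k, hk⟩)
    refine eq_zero_of_two hT hdim (U 0) V (hUc 0) hVc hUV F p hp ξ (hξ 0) ?_
    have : SpectralSpace (TopCat.of V) := spectralSpace_of_qc hVc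
    apply pullE_incl_injective hVc F p
    rw [map_zero, pullE_eres]
    refine ih (TopCat.of V) (hdim.of_isInducing V.isOpenEmbedding.isInducing fun _ _ => trivial)
      (fun k => (Opens.map (CohCx.incl V)).obj (U k.succ))
      (fun k => (isSpectralMap_incl hVc).isCompact_preimage_of_isOpen (U k.succ).2 (hUc _))
      (fun z _ => ?_) _ _ fun k => ?_
    · obtain ⟨k, hk⟩ := Opens.mem_iSup.1 (z.2 : (z.1 : X) ∈ V)
      exact Opens.mem_iSup.2 ⟨k, hk⟩
    · exact eres_pullE_eq_zero (CohCx.incl V) (hξ k.succ)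

/-- Cohomology vanishes in degrees at least the length bound of specialization chains. -/
theorem vd_all : ∀ k, VD.{u} k := by
  intro k
  induction k using Nat.strong_induction_on with
  | _ k ih =>
    intro Y _ hdim F p hp
    cases k with
    | zero =>
      have e : (⊤ : Opens Y) = ⊥ := Opens.ext (by simpa using eq_empty_of_dimLT_zero hdim)
      rw [e]
      exact subsingleton_E_bot F p
    | succ d =>
      refine subsingleton_of_forall_eq 0 fun ξ => ?_
      obtain ⟨q, rfl⟩ : ∃ q, p = q + 1 := ⟨p - 1, by omega⟩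
      obtain ⟨W, hW, hsup, h0⟩ := kill_class q F ⊤ ξ
      have hloc : ∀ x : Y, ∃ (B : Opens Y), IsCompact (B : Set Y) ∧ x ∈ B ∧
          eres F (q + 1) (le_top : B ≤ ⊤) ξ = 0 := fun x => by
        obtain ⟨a, ha⟩ := Opens.mem_iSup.1 (hsup.ge (trivial : x ∈ (⊤ : Opens Y)))
        obtain ⟨B, hBc, hxB, hBW⟩ := Opens.isBasis_iff_nbhd.1 (PrespectralSpace.isBasis_opens Y) ha
        exact ⟨B, hBc, hxB, by rw [← eres_eres F (q + 1) (hW a) hBW ξ, h0 a, map_zero]⟩
      choose B hBc hxB hB0 using hloc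
      obtain ⟨s, hs⟩ := isCompact_univ.elim_finite_subcover (fun x => (B x : Set Y)) (fun x => (B x).2)
        (fun x _ => Set.mem_iUnion.2 ⟨x, hxB x⟩)
      refine eq_zero_of_cover (fun e he => ih e (Nat.lt_succ_of_le he)) hp s.card Y hdim
        (fun k => B (s.equivFin.symm k).1) (fun k => hBc _) (fun x _ => ?_) F ξ (fun k => hB0 _)
      obtain ⟨a, ha, hxa⟩ := Set.mem_iUnion₂.1 (hs (Set.mem_univ x))
      exact Opens.mem_iSup.2 ⟨s.equivFin ⟨a, ha⟩, by simpa using hxa⟩

variable {X : TopCat.{u}} [SpectralSpace X]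

lemma cmpE_eres {Y : TopCat.{u}} (i : Y ⟶ X) (G : CohTop.Ab Y) (p : ℕ) {U V : Opens X} (h : V ≤ U)
    (x : E ((CohTop.push i).obj G) p U) :
    cmpE i G p V (eres _ p h x) = eres G p ((Opens.map i).monotone h) (cmpE i G p U x) := by
  rw [cmpE_apply, cmpE_apply, eres_emap, eres_pullE, pullE_eres]

/-- In degree at least the dimension, restriction to a compact open is surjective. -/
theorem eres_surjective_of_isCompact {d : ℕ} (hdim : DimLT (Set.univ : Set X) (d + 1)) (U : Opens X)
    (hU : IsCompact (U : Set X)) (F : CohTop.Ab X) (q : ℕ) (hq : d ≤ q) :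
    Function.Surjective (eres F q (le_top : U ≤ ⊤)) := by
  intro ξ
  set i := subIn (closure (U : Set X))
  have hi : IsClosedEmbedding i := isClosedEmbedding_subIn isClosed_closure
  have : SpectralSpace (TopCat.of (closure (U : Set X))) := spectralSpace_closed isClosed_closure
  have := epi_un i F hi
  have hdense : ∀ z, ∃ a ∈ (Opens.map i).obj U, a ⤳ z := fun z => by
    obtain ⟨a, ha, haz⟩ := exists_gen_of_mem_closure hU z.2
    exact ⟨⟨a, subset_closure ha⟩, ha, hi.isInducing.specializes_iff.1 haz⟩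
  obtain ⟨b, hb⟩ := eres_surjective_of_dense (fun e _ => vd_all e)
    (hdim.of_isInducing hi.isInducing fun _ _ => trivial) ((Opens.map i).obj U)
    (isCompact_map_closed isClosed_closure hU) hdense _ q hq (cmpE i _ q U (emap (un i F) q U ξ))
  obtain ⟨c, hc⟩ := (cmpE_bijective i hi q _ ⊤).2 b
  have hc' : eres _ q (le_top : U ≤ ⊤) c = emap (un i F) q U ξ :=
    (cmpE_bijective i hi q _ U).1 (by rw [cmpE_eres, hc]; exact hb)
  let S := ShortComplex.mk (kernel.ι (un i F)) (un i F) (kernel.condition _)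
  have hS : S.ShortExact := { exact := ShortComplex.exact_kernel _ }
  have hK : ∀ x ∈ U, IsZero (CohTop.stalk S.X₁ x) := fun x hx => by
    refine @AddCommGrpCat.isZero_of_subsingleton _ (subsingleton_of_forall_eq 0 fun s => ?_)
    obtain ⟨V, hxV, t, rfl⟩ := TopCat.Presheaf.exists_germ_eq S.X₁.obj s
    have hg := germ_eq_zero_of_un i F ⟨x, subset_closure hx⟩ hxV ((kernel.ι (un i F)).hom.app (op V) t)
      (ConcreteCategory.congr_hom (NatTrans.congr_app
        (congrArg (fun φ => φ.hom) (kernel.condition (un i F))) (op V)) t)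
    obtain ⟨N, hN₁, hN₂, hN, hNt⟩ := exists_agree F ((kernel.ι (un i F)).hom.app (op V) t) (0 : F.obj.obj (op V))
    have hxN : x ∈ N := hN x hxV hxV (hg.trans (map_zero _).symm)
    have hz : rs S.X₁.obj hN₁ t = 0 := by
      refine app_f_injective hS N ?_
      refine ((kernel.ι (un i F)).hom.naturality_apply (homOfLE hN₁).op t).trans ?_
      exact hNt.trans ((map_zero _).trans (map_zero _).symm)
    exact ((germ_rs S.X₁ hN₁ x hxN t).symm.trans (congrArg _ hz)).trans (map_zero _)
  obtain ⟨y, hy⟩ := exact₃ hS rfl ⊤ c ((vd_all (d + 1) X hdim S.X₁ (q + 1) (by omega)).elim _ _)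
  refine ⟨y, sub_eq_zero.1 ?_⟩
  obtain ⟨w, hw⟩ := exact₂ hS q U (eres F q (le_top : U ≤ ⊤) y - ξ) (by
    rw [map_sub, sub_eq_zero]
    refine (eres_emap S.g q _ y).symm.trans ?_
    rw [hy, hc'])
  have hsub : Subsingleton (E S.X₁ q U) := by
    have hz : IsZero ((CohTop.pull (CohCx.incl U)).obj S.X₁) := isZero_of_stalks fun z =>
      (hK _ z.2).of_iso (asIso (stalkUnit (CohCx.incl U) S.X₁ z)).symm
    exact @Function.Injective.subsingleton _ _ _ (pullE_incl_injective hU S.X₁ q) (subsingleton_E_of_isZero hz q ⊤)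
  rw [← hw, hsub.elim w 0, map_zero]

end Groth.Agent.SpecVan49
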