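import Groth.Agent.SpecSp50.Basic
import Mathlib.Topology.KrullDimension
import Mathlib.Topology.Sober
import Mathlib.Order.KrullDimension

/-!
Bounds on the length of specialization chains inside a subset.
-/

universe u v

open TopologicalSpace Topology

namespace Groth.Agent.SpecVan49

variable {α : Type u} [TopologicalSpace α] {β : Type v} [TopologicalSpace β]

/-- A chain of proper specializations inside a set. -/
def IsChainIn (S : Set α) {n : ℕ} (f : Fin n → α) : Prop :=
  (∀ i, f i ∈ S) ∧ ∀ i j, i < j → f i ⤳ f j ∧ ¬ f j ⤳ f i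

/-- Every chain of proper specializations inside `S` has at most `k` members. -/
def DimLT (S : Set α) (k : ℕ) : Prop := ∀ f : Fin (k + 1) → α, ¬ IsChainIn S f

lemma DimLT.mono_set {S T : Set α} {k : ℕ} (h : DimLT T k) (hST : S ⊆ T) : DimLT S k :=
  fun f hf => h f ⟨fun i => hST (hf.1 i), hf.2⟩

lemma DimLT.mono {S : Set α} {k l : ℕ} (h : DimLT S k) (hkl : k ≤ l) : DimLT S l := fun f hf =>
  h (fun i => f (Fin.castLE (by omega) i))
    ⟨fun i => hf.1 _, fun i j hij => hf.2 _ _ (by simpa using hij)⟩

lemma dimLT_empty (k : ℕ) : DimLT (∅ : Set α) k := fun _ hf => hf.1 0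

lemma eq_empty_of_dimLT_zero {S : Set α} (h : DimLT S 0) : S = ∅ :=
  Set.eq_empty_iff_forall_notMem.2 fun x hx =>
    h (fun _ => x) ⟨fun _ => hx, fun i j hij => absurd (Fin.ext (by omega) : i = j) hij.ne⟩

lemma DimLT.of_isInducing {g : β → α} (hg : IsInducing g) {S : Set α} {k : ℕ} (h : DimLT S k)
    {T : Set β} (hT : ∀ x ∈ T, g x ∈ S) : DimLT T k := fun f hf =>
  h (g ∘ f) ⟨fun i => hT _ (hf.1 i), fun i j hij => by
    simp only [Function.comp, hg.specializes_iff]
    exact hf.2 i j hij⟩

/-- If all members of `S` lie in closures of points whose closures are small, so is `S`. -/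
lemma dimLT_of_forall_closure {S : Set α} {k : ℕ}
    (h : ∀ x ∈ S, ∃ t, t ⤳ x ∧ DimLT (closure {t}) k) : DimLT S k := fun f hf => by
  obtain ⟨t, ht, hk⟩ := h _ (hf.1 0)
  refine hk f ⟨fun i => specializes_iff_mem_closure.1 ?_, hf.2⟩
  rcases eq_or_ne i 0 with rfl | hi
  · exact ht
  · exact ht.trans (hf.2 0 i (Fin.pos_iff_ne_zero.2 hi)).1

lemma DimLT.union {S T : Set α} (hS : IsClosed S) (hT : IsClosed T) {k : ℕ}
    (h₁ : DimLT S k) (h₂ : DimLT T k) : DimLT (S ∪ T) k := fun f hf => by
  have hle : ∀ i, f 0 ⤳ f i := fun i => by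
    rcases eq_or_ne i 0 with rfl | hi
    · exact specializes_rfl
    · exact (hf.2 0 i (Fin.pos_iff_ne_zero.2 hi)).1
  rcases hf.1 0 with h | h
  · exact h₁ f ⟨fun i => (hle i).mem_closed hS h, hf.2⟩
  · exact h₂ f ⟨fun i => (hle i).mem_closed hT h, hf.2⟩

/-- Outside an open, inside the specializations of that open, chains are shorter. -/
lemma DimLT.of_generized {S T : Set α} {A : Set α} (hA : IsOpen A) {d : ℕ} (h : DimLT S (d + 1))
    (hT : T ⊆ S) (hTA : ∀ x ∈ T, x ∉ A) (hgen : ∀ x ∈ T, ∃ a ∈ A, a ∈ S ∧ a ⤳ x) : DimLT T d := by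
  intro f hf
  obtain ⟨a, haA, haS, ha⟩ := hgen _ (hf.1 0)
  have hle : ∀ i, f 0 ⤳ f i := fun i => by
    rcases eq_or_ne i 0 with rfl | hi
    · exact specializes_rfl
    · exact (hf.2 0 i (Fin.pos_iff_ne_zero.2 hi)).1
  refine h (Fin.cons a f) ⟨fun i => ?_, fun i j hij => ?_⟩
  · refine Fin.cases ?_ ?_ i
    · exact haS
    · exact fun i => hT (hf.1 i)
  · induction j using Fin.cases with
    | zero => exact absurd hij (Fin.not_lt_zero i)
    | succ j =>
      induction i using Fin.cases with
      | zero =>
        simp only [Fin.cons_zero, Fin.cons_succ]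
        exact ⟨ha.trans (hle j), fun hja => hTA _ (hf.1 j) (hja.mem_open hA haA)⟩
      | succ i =>
        simp only [Fin.cons_succ]
        exact hf.2 i j (Fin.succ_lt_succ_iff.1 hij)

/-- A long chain in the open generizations of a point bounds the chains in its closure. -/
lemma DimLT.split {A : Set α} (hA : IsOpen A) {z : α} (hz : z ∉ A) {e m : ℕ}
    (h : DimLT (Set.univ : Set α) (e + m + 1)) :
    DimLT (closure {z}) e ∨ DimLT (A ∩ {x | x ⤳ z}) m := by
  by_contra hne
  simp only [not_or, DimLT, not_forall, not_not] at hne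
  obtain ⟨⟨f, hf⟩, ⟨g, hg⟩⟩ := hne
  have hmid : ∀ i j, g i ⤳ f j ∧ ¬ f j ⤳ g i := fun i j => by
    have hzf : z ⤳ f j := specializes_iff_mem_closure.2 (hf.1 j)
    refine ⟨((hg.1 i).2).trans hzf, fun h' => hz ?_⟩
    exact (hzf.trans h').mem_open hA (hg.1 i).1
  refine h (Fin.append g f ∘ Fin.cast (by omega)) ⟨fun _ => trivial, fun i j hij => ?_⟩
  have key : ∀ a b : Fin ((m + 1) + (e + 1)), a < b →
      Fin.append g f a ⤳ Fin.append g f b ∧ ¬ Fin.append g f b ⤳ Fin.append g f a := by
    intro a b
    induction a using Fin.addCases with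
    | left a =>
      induction b using Fin.addCases with
      | left b =>
        intro hab
        simp only [Fin.append_left]
        exact hg.2 a b (by rw [Fin.lt_def] at hab ⊢; simpa only [Fin.val_castAdd] using hab)
      | right b =>
        intro _
        simp only [Fin.append_left, Fin.append_right]
        exact hmid a b
    | right a =>
      induction b using Fin.addCases with
      | left b =>
        intro hab
        exact absurd hab (by simp only [Fin.lt_def, Fin.val_natAdd, Fin.val_castAdd]; omega)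
      | right b =>
        intro hab
        simp only [Fin.append_right]
        exact hf.2 a b (by rw [Fin.lt_def] at hab ⊢; simp only [Fin.val_natAdd] at hab; omega)
  exact key _ _ hij

lemma dimLT_of_topologicalKrullDim_le {d : ℕ} (h : topologicalKrullDim α ≤ d) :
    DimLT (Set.univ : Set α) (d + 1) := by
  intro f hf
  let l : LTSeries (IrreducibleCloseds α) :=
    { length := d + 1
      toFun := fun i => ⟨closure {f i.rev}, isIrreducible_singleton.closure, isClosed_closure⟩
      step := fun i => by
        have hlt : i.succ.rev < i.castSucc.rev := Fin.rev_lt_rev.2 i.castSucc_lt_succ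
        have h' := hf.2 _ _ hlt
        change (⟨_, _, _⟩ : IrreducibleCloseds α) < ⟨_, _, _⟩
        refine lt_of_le_not_ge (fun x hx => ?_) (fun hge => h'.2 ?_)
        · exact closure_minimal (Set.singleton_subset_iff.2 (specializes_iff_mem_closure.1 h'.1))
            isClosed_closure hx
        · exact specializes_iff_mem_closure.2 (hge (subset_closure rfl)) }
  have := (Order.LTSeries.length_le_krullDim l).trans h
  have h2 : d + 1 ≤ d := by exact_mod_cast this
  omega

end Groth.Agent.SpecVan49
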