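import Groth.Agent.SpecVan49.Cont
import Groth.Agent.TopCoh49.StalkRpush

/-!
Stalks of higher direct images along spectral maps, and cohomology of generalizations as a colimit.
-/

universe u

open CategoryTheory Limits TopologicalSpace Opposite Abelian Topology
open Groth.Agent.TopCoh49

namespace Groth.Agent.SpecVan49

variable {X : TopCat.{u}}

/-- The inclusion of a subset. -/
abbrev subIn (S : Set X) : TopCat.of S ⟶ X :=
  TopCat.ofHom ⟨Subtype.val, continuous_subtype_val⟩

lemma isInducing_subIn (S : Set X) : IsInducing (subIn S) := IsInducing.subtypeVal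

lemma range_subIn (S : Set X) : Set.range (subIn S) = S := Subtype.range_val

variable [SpectralSpace X]

theorem stalk_Rpush_spectral {Y : TopCat.{u}} [SpectralSpace Y] (f : X ⟶ Y) (hf : IsSpectralMap f)
    (y : Y) (F : CohTop.Ab X) (p : ℕ) :
    Nonempty (CohTop.stalk ((CohTop.Rpush f p).obj F) y ≃+
      CohTop.H ((CohTop.pull (subIn {x : X | y ∈ closure {f x}})).obj F) p) := by
  set S : Set X := {x : X | y ∈ closure {f x}}
  let κ := {O : Opens Y // IsCompact (O : Set Y) ∧ y ∈ O}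
  have hS : S = ⋂ O : κ, f ⁻¹' (O.1 : Set Y) := by
    refine Set.Subset.antisymm (fun x hx => Set.mem_iInter.2 fun O =>
      (specializes_iff_mem_closure.2 hx).mem_open O.1.2 O.2.2) (fun x hx => ?_)
    refine specializes_iff_mem_closure.1 (specializes_iff_forall_open.2 fun V hV hyV => ?_)
    obtain ⟨B, ⟨hBo, hBc⟩, hyB, hBV⟩ := (PrespectralSpace.isTopologicalBasis (X := Y)).exists_subset_of_mem_open hyV hV
    exact hBV (Set.mem_iInter.1 hx ⟨⟨B, hBo⟩, hBc, hyB⟩)
  have hcl : ∀ O : κ, IsClosed[constructibleTopology X] (f ⁻¹' (O.1 : Set Y)) := fun O =>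
    SpecSp50.isClosed_cons_of_qc (O.1.2.preimage f.hom.continuous) (hf.isCompact_preimage_of_isOpen O.1.2 O.2.1)
  have hSc : IsCompact S := by
    rw [hS]
    exact SpecSp50.isCompact_of_isClosed_cons (@isClosed_iInter X _ (constructibleTopology X) _ hcl)
  have hSg : StableUnderGeneralization S := fun a b hab ha =>
    specializes_iff_mem_closure.1 ((hab.map f.hom.continuous).trans (specializes_iff_mem_closure.2 ha))
  have hc := pullE_continuity_spectral (subIn S) (isInducing_subIn S) (by rw [range_subIn]; exact hSc)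
    (by rw [range_subIn]; exact hSg) p F
  have hcof : ∀ U : Opens X, S ⊆ U → ∃ (V : Opens Y), y ∈ V ∧ (Opens.map f).obj V ≤ U := fun U hU => by
    obtain ⟨s, hs⟩ := SpecSp50.exists_finset_subset_of_iInter_subset _ hcl
      (SpecSp50.isOpen_cons_of_isOpen U.2) (hS.symm.trans_subset hU)
    exact ⟨⟨⋂ O ∈ s, (O.1 : Set Y), isOpen_biInter_finset fun O _ => O.1.2⟩,
      Set.mem_iInter₂.2 fun O _ => O.2.2, fun x hx => hs (Set.mem_iInter₂.2 fun O hO =>
        Set.mem_iInter₂.1 hx O hO)⟩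
  have htop : ∀ V : Opens Y, y ∈ V → ⊤ ≤ (Opens.map (subIn S)).obj ((Opens.map f).obj V) :=
    fun V hV z _ => (specializes_iff_mem_closure.2 z.2).mem_open V.2 hV
  obtain ⟨e⟩ := stalk_Rpush_equiv (subIn S) f y F p htop
    (fun z => by
      obtain ⟨U, hU, x, rfl⟩ := hc.1 z
      obtain ⟨V, hyV, hVU⟩ := hcof U (by rwa [range_subIn] at hU)
      exact ⟨V, hyV, eres F p hVU x, pullE_eres _ _ _ hVU (htop V hyV) x⟩)
    (fun V hV x hx => by
      obtain ⟨U, hUV, hU, h0⟩ := hc.2 ((Opens.map f).obj V) (fun a ⟨z, e⟩ => e ▸ htop V hV trivial) x hx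
      obtain ⟨V', hyV', hV'U⟩ := hcof U (by rwa [range_subIn] at hU)
      refine ⟨V' ⊓ V, inf_le_right, ⟨hyV', hV⟩, ?_⟩
      have hle : (Opens.map f).obj (V' ⊓ V) ≤ U := fun a ha => hV'U ha.1
      rw [← eres_eres F p hUV hle x, h0, map_zero])
  exact ⟨e.addCommGroupIsoToAddEquiv⟩

theorem cohomology_generalizations (E₁ : Set X) (hE : IsCompact E₁) (F : CohTop.Ab X) (p : ℕ) :
    Nonempty ((colimit (ObjectProperty.ι (fun U : (Opens X)ᵒᵖ => E₁ ⊆ (U.unop : Set X) ∧ IsCompact (U.unop : Set X)) ⋙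
        (Sheaf.cohomologyPresheafFunctor (Opens.grothendieckTopology X) p).obj F) : AddCommGrpCat.{u}) ≃+
      CohTop.H ((CohTop.pull (subIn {x : X | ∃ e ∈ E₁, e ∈ closure {x}})).obj F) p) := by
  set S : Set X := {x : X | ∃ e ∈ E₁, e ∈ closure {x}}
  set P : ObjectProperty (Opens X)ᵒᵖ := fun U => E₁ ⊆ (U.unop : Set X) ∧ IsCompact (U.unop : Set X)
  have hES : E₁ ⊆ S := fun e he => ⟨e, he, subset_closure rfl⟩
  have hsub : ∀ U : Opens X, E₁ ⊆ U → S ⊆ U := fun U hU x ⟨e, he, hx⟩ =>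
    (specializes_iff_mem_closure.2 hx).mem_open U.2 (hU he)
  have hSc : IsCompact S := isCompact_of_finite_subcover fun U hUo hU => by
    obtain ⟨t, ht⟩ := hE.elim_finite_subcover U hUo (hES.trans hU)
    exact ⟨t, hsub ⟨⋃ i ∈ t, U i, isOpen_biUnion fun i _ => hUo i⟩ ht⟩
  have hSg : StableUnderGeneralization S := fun a b hab ⟨e, he, ha⟩ =>
    ⟨e, he, specializes_iff_mem_closure.1 (hab.trans (specializes_iff_mem_closure.2 ha))⟩
  have hc := pullE_continuity_spectral (subIn S) (isInducing_subIn S) (by rw [range_subIn]; exact hSc)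
    (by rw [range_subIn]; exact hSg) p F
  have hcof : ∀ U : Opens X, E₁ ⊆ U → ∃ V : Opens X, P (op V) ∧ V ≤ U := fun U hU => by
    choose B hBc hxB hBU using fun x : E₁ => Opens.isBasis_iff_nbhd.1 (PrespectralSpace.isBasis_opens X) (hU x.2)
    obtain ⟨t, ht⟩ := hE.elim_finite_subcover (fun x : E₁ => (B x : Set X)) (fun x => (B x).2)
      (fun x hx => Set.mem_iUnion.2 ⟨⟨x, hx⟩, hxB _⟩)
    exact ⟨⟨⋃ k ∈ t, (B k : Set X), isOpen_biUnion fun k _ => (B k).2⟩,
      ⟨ht, t.finite_toSet.isCompact_biUnion fun k _ => hBc k⟩, fun x hx => by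
        obtain ⟨k, _, hk⟩ := Set.mem_iUnion₂.1 hx
        exact hBU k hk⟩
  have : Nonempty P.FullSubcategory := ⟨⟨op ⊤, Set.subset_univ _, isCompact_univ⟩⟩
  have : IsFilteredOrEmpty P.FullSubcategory :=
    { cocone_objs := fun A B => ⟨⟨op (A.obj.unop ⊓ B.obj.unop),
          Set.subset_inter A.property.1 B.property.1,
          QuasiSeparatedSpace.inter_isCompact _ _ A.obj.unop.2 A.property.2 B.obj.unop.2 B.property.2⟩,
        P.homMk (homOfLE inf_le_left).op, P.homMk (homOfLE inf_le_right).op, trivial⟩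
      cocone_maps := fun A B f g => ⟨B, 𝟙 B, by ext1; exact Quiver.Hom.unop_inj (Subsingleton.elim _ _)⟩ }
  have : IsFiltered P.FullSubcategory := {}
  let K := ObjectProperty.ι P ⋙ (Sheaf.cohomologyPresheafFunctor (Opens.grothendieckTopology X) p).obj F
  let H := HEquivTop ((CohTop.pull (subIn S)).obj F) p
  have htop : ∀ A : P.FullSubcategory, ⊤ ≤ (Opens.map (subIn S)).obj A.obj.unop :=
    fun A z _ => hsub _ A.property.1 z.2
  exact nonempty_addEquiv_colimit K _
    (fun A => H.symm.toAddMonoidHom.comp (pullE (subIn S) F p (htop A)))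
    (fun {A B} g x => congrArg H.symm ((congrArg _ (cohPre_map F p g.hom x)).trans
      (pullE_eres (subIn S) F p (leOfHom g.hom.unop) (htop B) x)))
    (fun z => by
      obtain ⟨U, hU, x, hx⟩ := hc.1 (H z)
      obtain ⟨V, hV, hVU⟩ := hcof U (hES.trans (by rwa [range_subIn] at hU))
      exact ⟨⟨op V, hV⟩, eres F p hVU x, (congrArg H.symm ((pullE_eres _ _ _ hVU
        (show ⊤ ≤ (Opens.map (subIn S)).obj V from fun z _ => hsub V hV.1 z.2) x).trans hx)).trans (H.symm_apply_apply z)⟩)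
    (fun A x hx => by
      obtain ⟨U, hUA, hU, h0⟩ := hc.2 A.obj.unop (fun a ⟨z, e⟩ => e ▸ htop A trivial) x
        ((map_eq_zero_iff _ H.symm.injective).1 hx)
      obtain ⟨V, hV, hVU⟩ := hcof U (hES.trans (by rwa [range_subIn] at hU))
      refine ⟨⟨op V, hV⟩, P.homMk (homOfLE (hVU.trans hUA)).op, (cohPre_map F p _ x).trans ?_⟩
      change eres F p (hVU.trans hUA) x = 0
      rw [← eres_eres F p hUA hVU x, h0, map_zero])

end Groth.Agent.SpecVan49
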