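import Groth.Prelude.Def_SpSeq

/-!
An abutment all of whose initial terms vanish in one degree is zero there.
-/

universe v u

open CategoryTheory CategoryTheory.Limits

namespace Groth.Agent.SpecVan49

variable {C : Type u} [Category.{v} C] [Abelian C] {r₀ : ℤ}

lemma isZero_page (E : CohomologicalSpectralSequence C r₀) (pq : ℤ × ℤ)
    (h : IsZero ((E.page r₀ le_rfl).X pq)) (r : ℤ) (hr : r₀ ≤ r) :
    IsZero ((E.page r hr).X pq) := by
  induction r, hr using Int.le_induction with
  | base => exact h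
  | succ n hn ih =>
    refine IsZero.of_iso ?_ (E.iso n (n + 1) pq rfl hn).symm
    exact (HomologicalComplex.exactAt_iff_isZero_homology _ _).1
      (ShortComplex.exact_of_isZero_X₂ _ ih)

lemma eq_of_isZero_subquot {X : C} (Z B : Subobject X) (h : B ≤ Z)
    (h0 : IsZero (SpSeq.subquot Z B h)) : B = Z := by
  have : Epi (B.ofLE Z h) := Preadditive.epi_of_isZero_cokernel _ h0
  have : IsIso (B.ofLE Z h) := isIso_of_mono_of_epi _
  exact le_antisymm h (Subobject.le_of_comm (inv (B.ofLE Z h)) (by
    rw [IsIso.inv_comp_eq, Subobject.ofLE_arrow]))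

theorem isZero_of_abutment {E : CohomologicalSpectralSequence C r₀} {H : ℤ → C}
    (a : SpSeq.Abutment E H) (n : ℤ) (ha : a.IsFinite n)
    (h : ∀ i : ℤ, IsZero ((E.page r₀ le_rfl).X (i, n - i))) : IsZero (H n) := by
  have hgr : ∀ i, a.fil n (i + 1) = a.fil n i := fun i => by
    have h1 := (isZero_page E (i, n - i) (h i) _ (a.stat (i, n - i)).1).of_iso (a.β (i, n - i)).symm
    have h2 : ∀ m, m = i + (n - i) → IsZero (SpSeq.grPiece (a.fil m) (a.anti m) i) := by
      rintro _ rfl
      exact h1
    exact eq_of_isZero_subquot _ _ _ (h2 n (by omega))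
  obtain ⟨⟨b, hb⟩, ⟨b', hb'⟩⟩ := ha
  have hconst : ∀ i j : ℤ, i ≤ j → a.fil n j = a.fil n i := fun i j hij => by
    induction j, hij using Int.le_induction with
    | base => rfl
    | succ k _ ih => rw [hgr, ih]
  have htb : (⊤ : Subobject (H n)) = ⊥ := by
    have hb1 : a.fil n b = ⊤ := hb
    have hb2 : a.fil n b' = ⊥ := hb'
    rcases le_total b b' with hle | hle
    · rw [← hb1, ← hconst b b' hle, hb2]
    · rw [← hb1, hconst b' b hle, hb2]
  exact IsZero.of_iso (isZero_zero C) ((asIso (⊤ : Subobject (H n)).arrow).symm ≪≫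
    eqToIso (congrArg (fun S : Subobject (H n) => (S : C)) htb) ≪≫ Subobject.botCoeIsoZero)

end Groth.Agent.SpecVan49
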