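import Groth.Agent.TopCoh49.PullMap
import Groth.Agent.TopCoh49.ClosedPush
import Groth.Agent.TopCoh49.ColimCoh

/-!
Cohomology classes and closed subspaces.
-/

universe u

open CategoryTheory Limits TopologicalSpace Opposite Abelian
open Groth.Agent.TopCoh49

namespace Groth.Agent.SpecVan49

variable {Y X : TopCat.{u}} (i : Y ⟶ X)

/-- The counit of inverse image ⊣ direct image. -/
noncomputable abbrev cu (G : CohTop.Ab Y) : (CohTop.pull i).obj ((CohTop.push i).obj G) ⟶ G :=
  (TopCat.Sheaf.pullbackPushforwardAdjunction AddCommGrpCat.{u} i).counit.app G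

/-- The unit of inverse image ⊣ direct image. -/
noncomputable abbrev un (F : CohTop.Ab X) : F ⟶ (CohTop.push i).obj ((CohTop.pull i).obj F) :=
  (TopCat.Sheaf.pullbackPushforwardAdjunction AddCommGrpCat.{u} i).unit.app F

lemma cu_naturality {G G' : CohTop.Ab Y} (g : G ⟶ G') :
    (CohTop.pull i).map ((CohTop.push i).map g) ≫ cu i G' = cu i G ≫ g :=
  (TopCat.Sheaf.pullbackPushforwardAdjunction AddCommGrpCat.{u} i).counit.naturality g

lemma triangle (F : CohTop.Ab X) : (CohTop.pull i).map (un i F) ≫ cu i ((CohTop.pull i).obj F) = 𝟙 _ :=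
  (TopCat.Sheaf.pullbackPushforwardAdjunction AddCommGrpCat.{u} i).left_triangle_components F

/-- Classes of a direct image restricted to the subspace. -/
noncomputable def cmpE (G : CohTop.Ab Y) (p : ℕ) (U : Opens X) :
    E ((CohTop.push i).obj G) p U →+ E G p ((Opens.map i).obj U) :=
  (emap (cu i G) p _).comp (pullE i _ p le_rfl)

lemma cmpE_apply (G : CohTop.Ab Y) (p : ℕ) (U : Opens X) (x : E ((CohTop.push i).obj G) p U) :
    cmpE i G p U x = emap (cu i G) p _ (pullE i _ p le_rfl x) := rfl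

lemma cmpE_emap {G G' : CohTop.Ab Y} (g : G ⟶ G') (p : ℕ) (U : Opens X)
    (x : E ((CohTop.push i).obj G) p U) :
    cmpE i G' p U (emap ((CohTop.push i).map g) p U x) = emap g p _ (cmpE i G p U x) := by
  rw [cmpE_apply, cmpE_apply, pullE_emap, emap_emap, emap_emap, cu_naturality]

lemma cmpE_δ {S : ShortComplex (CohTop.Ab Y)} (hS : S.ShortExact)
    (hS' : (S.map (CohTop.push i)).ShortExact) {n m : ℕ} (h : n + 1 = m) (U : Opens X)
    (x : E ((CohTop.push i).obj S.X₃) n U) :
    cmpE i S.X₁ m U (δ hS' h U x) = δ hS h _ (cmpE i S.X₃ n U x) := by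
  rw [cmpE_apply, cmpE_apply]
  refine Eq.trans (congrArg _ (pullE_δ i hS' h le_rfl x)) ?_
  exact emap_δ (pull_shortExact i hS') hS
    { τ₁ := cu i S.X₁, τ₂ := cu i S.X₂, τ₃ := cu i S.X₃
      comm₁₂ := (cu_naturality i S.f).symm, comm₂₃ := (cu_naturality i S.g).symm } h _ _

lemma E₀_cmpE (G : CohTop.Ab Y) (U : Opens X) (x : E ((CohTop.push i).obj G) 0 U) :
    E₀ G _ (cmpE i G 0 U x) = E₀ ((CohTop.push i).obj G) U x := by
  rw [cmpE_apply, E₀_emap, E₀_pullE, rs_self]
  exact ConcreteCategory.congr_hom (NatTrans.congr_app (congrArg (fun φ => φ.hom)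
    ((TopCat.Sheaf.pullbackPushforwardAdjunction AddCommGrpCat.{u} i).right_triangle_components G)) (op U)) _

theorem cmpE_bijective (hi : Topology.IsClosedEmbedding i) : ∀ (p : ℕ) (G : CohTop.Ab Y) (U : Opens X),
    Function.Bijective (cmpE i G p U) := by
  have := preservesFiniteColimits_push i hi
  have : PreservesFiniteLimits (CohTop.push i) :=
    haveI : PreservesLimitsOfSize.{0, 0} (CohTop.push i) :=
      (TopCat.Sheaf.pullbackPushforwardAdjunction AddCommGrpCat.{u} i).rightAdjoint_preservesLimits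
    PreservesLimitsOfSize.preservesFiniteLimits _
  intro p
  induction p with
  | zero =>
    intro G U
    exact ⟨fun a b h => (E₀ _ U).injective (by rw [← E₀_cmpE, ← E₀_cmpE, h]),
      fun y => ⟨(E₀ _ U).symm (E₀ G _ y), (E₀ G _).injective ((E₀_cmpE i G U _).trans (AddEquiv.apply_symm_apply _ _))⟩⟩
  | succ p ih =>
    intro G U
    have hS := injSES_shortExact G
    have hS' : ((injSES G).map (CohTop.push i)).ShortExact := hS.map_of_exact _
    have hI : ∀ V, Subsingleton (E ((CohTop.push i).obj (injSES G).X₂) (p + 1) V) := fun V =>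
      @subsingleton_E_of_isFlasque _ p _
        (@TopCat.Sheaf.IsFlasque.pushforward_isFlasque _ _ _ _ (injSES G).X₂
          (@isFlasque_of_injective _ _ (inferInstanceAs (Injective (Injective.under G)))) i) V
    constructor
    · rw [injective_iff_map_eq_zero]
      intro x hx
      obtain ⟨z, rfl⟩ := exact₁ hS' rfl U x ((hI U).elim _ _)
      obtain ⟨w, hw⟩ := exact₃ hS rfl _ (cmpE i _ p U z) ((cmpE_δ i hS hS' rfl U z).symm.trans hx)
      obtain ⟨w', rfl⟩ := (ih _ U).2 w
      have : emap ((CohTop.push i).map (injSES G).g) p U w' = z :=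
        (ih _ U).1 ((cmpE_emap i (injSES G).g p U w').trans hw)
      rw [← this]
      exact δ_emap_g hS' rfl U w'
    · intro y
      obtain ⟨z, rfl⟩ := exact₁ hS rfl _ y
        ((subsingleton_E_of_injective (Injective.under G) p _).elim _ _)
      obtain ⟨z', rfl⟩ := (ih _ U).2 z
      exact ⟨δ hS' rfl U z', cmpE_δ i hS hS' rfl U z'⟩

lemma cmpE_emap_un (F : CohTop.Ab X) (p : ℕ) (U : Opens X) (x : E F p U) :
    cmpE i _ p U (emap (un i F) p U x) = pullE i F p le_rfl x := by
  rw [cmpE_apply, pullE_emap, emap_emap, triangle]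
  exact Ext.comp_mk₀_id _

end Groth.Agent.SpecVan49
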