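import Groth.Agent.SpecVan49.GenNhd
import Groth.Agent.TopCoh49.CechCoh
import Groth.Agent.TopCoh49.ColimCoh

/-!
Acyclicity of inverse images of flasque sheaves on compact generalization-stable subspaces, and continuity.
-/

universe u

open CategoryTheory Limits TopologicalSpace Opposite Abelian Topology
open Groth.Agent.TopCoh49

namespace Groth.Agent.SpecVan49

variable {X Z : TopCat.{u}} [SpectralSpace X] (i : Z ⟶ X) (hi : IsInducing i)
  (hS : IsCompact (Set.range i)) (hg : StableUnderGeneralization (Set.range i))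

include hi hg in
omit [SpectralSpace X] in
lemma stableUnderGeneralization_image (W : Opens Z) : StableUnderGeneralization (i '' (W : Set Z)) := by
  rintro a b hab ⟨w, hw, rfl⟩
  obtain ⟨w', rfl⟩ := hg hab ⟨w, rfl⟩
  exact ⟨w', (hi.specializes_iff.1 hab).mem_open W.2 hw, rfl⟩

include hi hS hg in
lemma isCompact_map {O : Opens X} (hO : IsCompact (O : Set X)) :
    IsCompact ((Opens.map i).obj O : Set Z) := by
  rw [hi.isCompact_iff]
  refine (congrArg IsCompact ?_).mpr (isCompact_inter hS hg hO)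
  exact Set.image_preimage_eq_inter_range

include hi hS hg in
lemma compactSpace : CompactSpace Z := ⟨by
  simpa using isCompact_map i hi hS hg (O := ⊤) (by simpa using isCompact_univ)⟩

include hi in
lemma exists_nhd {W : Opens Z} {z : Z} (hz : z ∈ W) :
    ∃ O : Opens X, IsCompact (O : Set X) ∧ i z ∈ O ∧ (Opens.map i).obj O ≤ W := by
  obtain ⟨O, hO, hOW⟩ := hi.isOpen_iff.1 W.2
  obtain ⟨B, ⟨hBo, hBc⟩, hzB, hBO⟩ := (PrespectralSpace.isTopologicalBasis (X := X)).exists_subset_of_mem_open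
    (show i z ∈ O from hOW.ge hz) hO
  exact ⟨⟨B, hBo⟩, hBc, hzB, fun w hw => hOW.le (hBO hw)⟩

include hi in
lemma exists_trace {W : Opens Z} (hW : IsCompact (W : Set Z)) :
    ∃ O : Opens X, IsCompact (O : Set X) ∧ (Opens.map i).obj O = W := by
  choose O hOc hzO hOW using fun z : W => exists_nhd i hi z.2
  obtain ⟨t, ht⟩ := hW.elim_finite_subcover (fun z : W => ((Opens.map i).obj (O z) : Set Z))
    (fun z => ((Opens.map i).obj (O z)).2) (fun z hz => Set.mem_iUnion.2 ⟨⟨z, hz⟩, hzO _⟩)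
  refine ⟨⟨⋃ k ∈ t, (O k : Set X), isOpen_biUnion fun k _ => (O k).2⟩,
    t.finite_toSet.isCompact_biUnion fun k _ => hOc k, le_antisymm (fun z hz => ?_) (fun z hz => ?_)⟩
  · obtain ⟨k, _, hk⟩ := Set.mem_iUnion₂.1 hz
    exact hOW k hk
  · obtain ⟨k, hkt, hk⟩ := Set.mem_iUnion₂.1 (ht hz)
    exact Set.mem_iUnion₂.2 ⟨k, hkt, hk⟩

include hi hS hg in
lemma isCompact_inf {W W' : Opens Z} (hW : IsCompact (W : Set Z)) (hW' : IsCompact (W' : Set Z)) :
    IsCompact ((W ⊓ W' : Opens Z) : Set Z) := by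
  obtain ⟨O, hO, rfl⟩ := exists_trace i hi hW
  obtain ⟨O', hO', rfl⟩ := exists_trace i hi hW'
  exact isCompact_map i hi hS hg (O := O ⊓ O') (QuasiSeparatedSpace.inter_isCompact _ _ O.2 hO O'.2 hO')

include hi hg in
lemma surjective_res (F : CohTop.Ab X) [h : TopCat.Sheaf.IsFlasque F] {W : Opens Z}
    (hW : IsCompact (W : Set Z)) {W₀ : Opens Z} (hle : W ≤ W₀) :
    Function.Surjective (rs ((CohTop.pull i).obj F).obj hle) := by
  intro s
  obtain ⟨Ω, t, W', hW'Ω, hW'W, -, hWW', e⟩ :=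
    exists_ext_near i hi hW (stableUnderGeneralization_image i hi hg W) F le_rfl s
  obtain rfl : W' = W := le_antisymm hW'W hWW'
  rw [rs_self] at e
  obtain ⟨t', ht'⟩ := (AddCommGrpCat.epi_iff_surjective _).1 (h.epi (homOfLE (le_top : Ω ≤ ⊤)).op) t
  refine ⟨rs _ (show W₀ ≤ (Opens.map i).obj ⊤ from fun _ _ => trivial) ((unitPre i F).app (op ⊤) t'), ?_⟩
  rw [rs_rs]
  refine Eq.trans ?_ e
  rw [← ht']
  exact ((congrArg (rs _ hW'Ω) (ConcreteCategory.congr_hom
    ((unitPre i F).naturality (homOfLE (le_top : Ω ≤ ⊤)).op) t')).trans (rs_rs _ _ _ _)).symm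

include hi hS hg in
lemma isZero_cechH_pull (F : CohTop.Ab X) [TopCat.Sheaf.IsFlasque F] {κ : Type u} [Finite κ]
    (V : κ → Opens Z) (hV : ∀ k, IsCompact (V k : Set Z)) (p : ℕ) :
    IsZero (CohTop.cechH ((CohTop.pull i).obj F).obj V (p + 1)) := by
  classical
  let meet : {A : Finset κ // A.Nonempty} → Opens Z := fun A => A.1.inf' A.2 V
  have hmeet : ∀ A, IsCompact (meet A : Set Z) := fun A =>
    Finset.inf'_induction A.2 V (p := fun W : Opens Z => IsCompact (W : Set Z))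
      (fun a ha b hb => isCompact_inf i hi hS hg ha hb) (fun k _ => hV k)
  let 𝒮 : Set (Opens Z) := Set.range fun s : Set {A : Finset κ // A.Nonempty} => ⨆ A ∈ s, meet A
  have : Fintype κ := Fintype.ofFinite κ
  have h𝒮c : ∀ W ∈ 𝒮, IsCompact (W : Set Z) := by
    rintro _ ⟨s, rfl⟩
    simp only [Opens.coe_iSup]
    exact s.toFinite.isCompact_biUnion fun A _ => hmeet A
  refine isZero_cechH_of_surjective V _ 𝒮 ?_ ?_ ?_ ?_ p
  · rintro _ ⟨s, rfl⟩ _ ⟨t, rfl⟩
    refine ⟨{C | ∃ A ∈ s, ∃ B ∈ t, C.1 = A.1 ∪ B.1}, ?_⟩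
    simp only [iSup_inf_eq, inf_iSup_eq]
    refine le_antisymm (iSup₂_le fun C ⟨A, hA, B, hB, hC⟩ => ?_) (iSup₂_le fun B hB => iSup₂_le fun A hA => ?_)
    · refine le_iSup₂_of_le B hB (le_iSup₂_of_le A hA ?_)
      have : meet C = meet A ⊓ meet B := by
        simp only [meet]
        rw [← Finset.inf'_union A.2 B.2]
        congr 1
      exact this.le
    · refine le_iSup₂_of_le ⟨A.1 ∪ B.1, A.2.mono Finset.subset_union_left⟩ ⟨A, hA, B, hB, rfl⟩ ?_
      exact (Finset.inf'_union A.2 B.2 V).ge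
  · intro T hT
    choose f hf using fun W : T => hT W.2
    refine ⟨⋃ W : T, f W, ?_⟩
    refine le_antisymm (iSup₂_le fun A hA => ?_) (sSup_le fun W hW => ?_)
    · obtain ⟨W, hW⟩ := Set.mem_iUnion.1 hA
      exact ((le_iSup₂_of_le A hW le_rfl).trans (hf W).le).trans (le_sSup W.2)
    · exact (hf ⟨W, hW⟩).ge.trans
        (biSup_mono fun A hA => Set.mem_iUnion.2 ⟨⟨W, hW⟩, hA⟩)
  · intro k
    refine ⟨{⟨{k}, Finset.singleton_nonempty k⟩}, ?_⟩
    simp [meet]
  · intro W hW W' _ hle _ s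
    exact surjective_res i hi hg F (h𝒮c W hW) hle s

include hi hS hg in
lemma subsingleton_E_pull (F : CohTop.Ab X) [TopCat.Sheaf.IsFlasque F] (p : ℕ) {W : Opens Z}
    (hW : IsCompact (W : Set Z)) : Subsingleton (E ((CohTop.pull i).obj F) (p + 1) W) := by
  refine cartan {W : Opens Z | IsCompact (W : Set Z)}
    (fun κ V => Finite κ ∧ ∀ k, IsCompact (V k : Set Z)) ?_ ?_ p _
    (fun κ V hV q => @isZero_cechH_pull _ _ _ i hi hS hg F _ κ hV.1 V hV.2 q) W hW
  · rintro κ V ⟨_, hV⟩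
    refine ⟨?_, fun n a => inter_mem V (𝒮 := {W : Opens Z | IsCompact (W : Set Z)})
      (fun A hA B hB => isCompact_inf i hi hS hg hA hB) hV a⟩
    change IsCompact ((iSup V : Opens Z) : Set Z)
    rw [Opens.coe_iSup]
    exact isCompact_iUnion hV
  · intro W hW κ V hV
    classical
    have hloc : ∀ z : W, ∃ (A : Opens Z), IsCompact (A : Set Z) ∧ z.1 ∈ A ∧ A ≤ W ∧ ∃ k, A ≤ V k := fun z => by
      obtain ⟨k, hk⟩ := Opens.mem_iSup.1 (hV.symm ▸ z.2 : z.1 ∈ iSup V)
      obtain ⟨O, hOc, hzO, hOV⟩ := exists_nhd i hi hk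
      exact ⟨(Opens.map i).obj O, isCompact_map i hi hS hg hOc, hzO, hOV.trans (hV ▸ le_iSup V k), k, hOV⟩
    choose A hA hzA hAW k hk using hloc
    obtain ⟨s, hs⟩ := hW.elim_finite_subcover (fun z : W => (A z : Set Z)) (fun z => (A z).2)
      (fun z hz => Set.mem_iUnion.2 ⟨⟨z, hz⟩, hzA ⟨z, hz⟩⟩)
    refine ⟨{z // z ∈ s}, fun z => A z.1, ⟨inferInstance, fun z => hA z.1⟩,
      le_antisymm (iSup_le fun z => hAW z.1) (fun z hz => ?_), fun z => ⟨k z.1, hk z.1⟩⟩
    obtain ⟨w, hw, hzw⟩ := Set.mem_iUnion₂.1 (hs hz)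
    exact Opens.mem_iSup.2 ⟨⟨w, hw⟩, hzw⟩

include hi hS hg in
/-- Continuity of cohomology at a compact generalization-stable subspace. -/
theorem pullE_continuity_spectral (p : ℕ) (F : CohTop.Ab X) :
    (∀ y : E ((CohTop.pull i).obj F) p ⊤, ∃ (U : Opens X) (h : Set.range i ⊆ U) (x : E F p U),
        pullE i F p (top_le_map i h) x = y) ∧
      (∀ (U : Opens X) (h : Set.range i ⊆ U) (x : E F p U), pullE i F p (top_le_map i h) x = 0 →
        ∃ (V : Opens X) (hVU : V ≤ U), Set.range i ⊆ V ∧ eres F p hVU x = 0) := by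
  have := compactSpace i hi hS hg
  refine pullE_continuity i (fun U => Set.range i ⊆ U) (fun U h => top_le_map i h)
    (fun U V hU hV => ⟨U ⊓ V, Set.subset_inter hU hV, inf_le_left, inf_le_right⟩) ?_ ?_ ?_ p F
  · intro F s
    obtain ⟨Ω, t, W', hW'Ω, hW'top, hΩ, hW', e⟩ := exists_ext_near i hi isCompact_univ
      (by rw [Set.image_univ]; exact hg) F (W := ⊤) (fun _ _ => trivial) s
    obtain rfl : W' = ⊤ := top_le_iff.1 fun z _ => hW' trivial
    exact ⟨Ω, by simpa using hΩ, t, e.trans (rs_self _ _ _)⟩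
  · intro F U h t ht
    obtain ⟨N, hN₁, hN₂, hN, hNt⟩ := exists_agree F t (0 : F.obj.obj (op U))
    refine ⟨N, hN₁, ?_, hNt.trans (map_zero _)⟩
    rintro _ ⟨z, rfl⟩
    refine hN _ (h ⟨z, rfl⟩) (h ⟨z, rfl⟩) ((stalkUnit_bijective i F z).1 ?_)
    rw [map_zero, map_zero]
    refine (germ_stalkUnit_apply i F z U _ t).trans ?_
    refine ((germ_rs _ (top_le_map i h) z trivial _).symm.trans (congrArg _ ht)).trans ?_
    exact map_zero _
  · intro I hI q
    have : TopCat.Sheaf.IsFlasque I := isFlasque_of_injective I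
    exact subsingleton_E_pull i hi hS hg I q (by simpa using isCompact_univ)

end Groth.Agent.SpecVan49
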