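import Groth.Agent.SpecVan49.Supp
import Groth.Agent.SpecVan49.Stalk
import Groth.Agent.SpecVan49.Abut
import Groth.Agent.LocCohZ46.Succ
import Groth.Agent.LocCohZ46.Spectral

/-!
Restriction to a dense compact open is surjective in high degrees.
-/

universe u

open CategoryTheory Limits TopologicalSpace Opposite Abelian Topology
open Groth.Agent.TopCoh49

namespace Groth.Agent.SpecVan49

variable {X : TopCat.{u}} [SpectralSpace X]

lemma isClosed_cons_of_gen {S : Set X} (hS : IsCompact S) (hg : StableUnderGeneralization S) :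
    IsClosed[constructibleTopology X] S := by
  have e : S = ⋂ O : {O : Opens X // IsCompact (O : Set X) ∧ S ⊆ O}, (O.1 : Set X) := by
    refine Set.Subset.antisymm (fun x hx => Set.mem_iInter.2 fun O => O.2.2 hx) fun x hx => ?_
    by_contra hxS
    obtain ⟨O, hOc, hSO, hxO⟩ := exists_qc_not_mem hS hg hxS
    exact hxO (Set.mem_iInter.1 hx ⟨O, hOc, hSO⟩)
  rw [e]
  exact @isClosed_iInter X _ (constructibleTopology X) _ fun O => SpecSp50.isClosed_cons_of_qc O.1.2 O.2.1

lemma spectralSpace_of_qc {A : Opens X} (hA : IsCompact (A : Set X)) : SpectralSpace (TopCat.of A) :=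
  (SpecSp50.spectralSpace_of_isClosed_cons (SpecSp50.isClosed_cons_of_qc A.2 hA)).1

lemma isSpectralMap_incl {A : Opens X} (hA : IsCompact (A : Set X)) : IsSpectralMap (CohCx.incl A) where
  toContinuous := (CohCx.incl A).hom.continuous
  isCompact_preimage_of_isOpen s hso hsc := by
    refine A.isOpenEmbedding.isInducing.isCompact_iff.2 ?_
    refine (congrArg IsCompact ?_).mpr (QuasiSeparatedSpace.inter_isCompact s (A : Set X) hso hsc A.2 hA)
    ext x
    constructor
    · rintro ⟨y, hy, rfl⟩
      exact ⟨hy, y.2⟩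
    · exact fun ⟨hx, hxA⟩ => ⟨⟨x, hxA⟩, hx, rfl⟩

omit [SpectralSpace X] in
lemma isZero_zq_of_le {W V : Opens X} (h : W ≤ V) (h' : V ≤ W) : IsZero (LocCohZ.zq h) := by
  obtain rfl : W = V := le_antisymm h h'
  have : IsIso (homOfLE h) := ⟨homOfLE h', Subsingleton.elim _ _, Subsingleton.elim _ _⟩
  have : IsIso (CohCx.freeSheafMap (Opens.grothendieckTopology X) (homOfLE h)) :=
    inferInstanceAs (IsIso ((freeFun X).map (homOfLE h)))
  exact isZero_cokernel_of_epi _

omit [SpectralSpace X] in
lemma isZero_stalk_HZsh_of_mem (A : Opens X) (F : CohTop.Ab X) (n : ℕ) {a : X} (ha : a ∈ A) :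
    IsZero (CohTop.stalk ((LocCohZ.HZsh A n).obj F) a) := by
  let P := (SiteCoh.extPre (LocCohZ46.zqFun A) n).obj F
  have hP : Subsingleton ((TopCat.Presheaf.stalkFunctor AddCommGrpCat.{u} a).obj P) :=
    subsingleton_of_forall_eq 0 fun s => by
      obtain ⟨V, haV, t, rfl⟩ := TopCat.Presheaf.exists_germ_eq P s
      have hz : IsZero ((LocCohZ46.zqFun A).obj (V ⊓ A)) := isZero_zq_of_le _ (le_inf le_rfl inf_le_right)
      have hsub : Subsingleton (P.obj (op (V ⊓ A))) := by
        refine ⟨fun x y => ?_⟩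
        have hid : ∀ c : Ext.{u} ((LocCohZ46.zqFun A).obj (V ⊓ A)) F n, c = 0 := fun c => by
          rw [← Ext.mk₀_id_comp c, hz.eq_of_src (𝟙 _) 0, Ext.mk₀_zero, Ext.zero_comp]
        exact (hid x).trans (hid y).symm
      rw [← TopCat.Presheaf.germ_res_apply P (homOfLE (inf_le_left : V ⊓ A ≤ V)) a ⟨haV, ha⟩ t]
      exact (congrArg _ (hsub.elim _ 0)).trans (map_zero _)
  have := TopCat.Presheaf.stalkFunctor_map_unit_toSheafify_isIso a AddCommGrpCat.{u} P
  exact ((AddCommGrpCat.isZero_of_subsingleton _).of_iso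
    (@asIso _ _ _ _ _ this).symm).of_iso
    ((TopCat.Presheaf.stalkFunctor AddCommGrpCat.{u} a).mapIso
      ((sheafToPresheaf _ _).mapIso ((LocCohZ46.HZshIso A n).app F)))

/-- Restriction to a compact open meeting all chains is surjective in high degrees. -/
theorem eres_surjective_of_dense {d : ℕ} (hT : ∀ e ≤ d, VD.{u} e)
    (hdim : DimLT (Set.univ : Set X) (d + 1)) (A : Opens X) (hA : IsCompact (A : Set X))
    (hdense : ∀ x : X, ∃ a ∈ A, a ⤳ x) (F : CohTop.Ab X) (q : ℕ) (hq : d ≤ q) :
    Function.Surjective (eres F q (le_top : A ≤ ⊤)) := by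
  have hZ : DimLT ((A : Set X)ᶜ) d := hdim.of_generized A.2 (Set.subset_univ _) (fun _ h => h)
    fun x _ => (hdense x).imp fun a h => ⟨h.1, trivial, h.2⟩
  have hvan : ∀ p n : ℕ, p + n = q + 1 → Subsingleton (E ((LocCohZ.HZsh A n).obj F) p ⊤) := by
    intro p n hpn
    have hsupp : ∀ x, ¬ IsZero (CohTop.stalk ((LocCohZ.HZsh A n).obj F) x) → x ∉ A := fun x hx hxA =>
      hx (isZero_stalk_HZsh_of_mem A F n hxA)
    have hcl : ∀ x : X, x ∉ A → closure {x} ⊆ (A : Set X)ᶜ := fun x hx =>
      closure_minimal (Set.singleton_subset_iff.2 hx) A.2.isClosed_compl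
    rcases (show n ≤ 1 ∨ ∃ i, 1 ≤ i ∧ n = i + 1 from
      if h : n ≤ 1 then Or.inl h else Or.inr ⟨n - 1, by omega, by omega⟩) with hn | ⟨i, hi, rfl⟩
    · exact subsingleton_E_of_supported (hT d le_rfl) _
        (fun x hx => hZ.mono_set (hcl x (hsupp x hx))) p (by omega)
    · refine subsingleton_E_of_supported (hT (d - i) (Nat.sub_le _ _)) _ (fun z hz => ?_) p (by omega)
      have hzA := hsupp z hz
      rcases DimLT.split A.2 hzA (e := d - i) (m := i) (hdim.mono (by omega)) with h | h
      · exact h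
      exfalso
      refine hz ?_
      have : SpectralSpace (TopCat.of A) := spectralSpace_of_qc hA
      obtain ⟨e⟩ := LocCohZ46.nonempty_HZsh_succ_iso A i hi
      let G := (CohTop.pull (CohCx.incl A)).obj F
      refine IsZero.of_iso ?_ ((TopCat.Presheaf.stalkFunctor AddCommGrpCat.{u} z).mapIso
        ((sheafToPresheaf _ _).mapIso (e.app F)))
      obtain ⟨e'⟩ := stalk_Rpush_spectral (CohCx.incl A) (isSpectralMap_incl hA) z G i
      set S : Set (TopCat.of A) := {x | z ∈ closure {CohCx.incl A x}}
      have hSg : StableUnderGeneralization S := fun a b hab ha =>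
        specializes_iff_mem_closure.1
          ((hab.map (CohCx.incl A).hom.continuous).trans (specializes_iff_mem_closure.2 ha))
      have hSc : IsCompact S := by
        refine A.isOpenEmbedding.isInducing.isCompact_iff.2 ?_
        have hgc : IsCompact {x : X | x ⤳ z} := isCompact_of_finite_subcover fun U hUo hU => by
          obtain ⟨j, hj⟩ := Set.mem_iUnion.1 (hU (specializes_rfl : z ⤳ z))
          exact ⟨{j}, fun x hx => Set.mem_biUnion (Finset.mem_singleton_self j) (hx.mem_open (hUo j) hj)⟩
        refine (congrArg IsCompact ?_).mpr (isCompact_inter hgc (fun a b hab (ha : a ⤳ z) => hab.trans ha) hA)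
        ext x
        constructor
        · rintro ⟨y, hy, rfl⟩
          exact ⟨y.2, specializes_iff_mem_closure.2 hy⟩
        · exact fun ⟨hxA, hx⟩ => ⟨⟨x, hxA⟩, specializes_iff_mem_closure.1 hx, rfl⟩
      have : SpectralSpace (TopCat.of S) :=
        (SpecSp50.spectralSpace_of_isClosed_cons (isClosed_cons_of_gen hSc hSg)).1
      have hS0 : Subsingleton (E ((CohTop.pull (subIn S)).obj G) i ⊤) := by
        rcases Nat.lt_or_ge d i with hdi | hdi
        · have hAd : DimLT ((A : Set X) ∩ {x | x ⤳ z}) d := (DimLT.split A.2 hzA (e := 0) (m := d)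
            (hdim.mono (by omega))).resolve_left fun h0 =>
              Set.eq_empty_iff_forall_notMem.1 (eq_empty_of_dimLT_zero h0) z (subset_closure rfl)
          exact hT d le_rfl (TopCat.of S)
            (hAd.of_isInducing (g := fun s : TopCat.of S => (s.1.1 : X))
              (A.isOpenEmbedding.isInducing.comp IsInducing.subtypeVal)
              fun s _ => ⟨s.1.2, specializes_iff_mem_closure.2 s.2⟩) _ i hdi.le
        · exact hT i hdi (TopCat.of S)
            (h.of_isInducing (g := fun s : TopCat.of S => (s.1.1 : X))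
              (A.isOpenEmbedding.isInducing.comp IsInducing.subtypeVal)
              fun s _ => ⟨s.1.2, specializes_iff_mem_closure.2 s.2⟩) _ i le_rfl
      have := (HEquivTop ((CohTop.pull (subIn S)).obj G) i).toEquiv.subsingleton
      have hsub := e'.toEquiv.subsingleton
      exact @AddCommGrpCat.isZero_of_subsingleton _ hsub
  obtain ⟨Ess, a, hfin, -, hE2⟩ := LocCohZ46.exists_spectralSequence_sheaves A F
  have hz := isZero_of_abutment a ((q + 1 : ℕ) : ℤ) (hfin _) fun i => by
    obtain ⟨e⟩ := hE2 i ((q + 1 : ℕ) - i)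
    refine IsZero.of_iso ?_ e
    split_ifs with h
    · have := hvan i.toNat (((q + 1 : ℕ) : ℤ) - i).toNat (by omega)
      exact @AddCommGrpCat.isZero_of_subsingleton _ (this : Subsingleton _)
    · exact AddCommGrpCat.isZero_of_subsingleton _
  rw [if_pos (Int.natCast_nonneg _)] at hz
  have hH : Subsingleton (LocCohZ46.Hz (le_top : A ≤ ⊤) F (q + 1)) := AddCommGrpCat.subsingleton_of_isZero hz
  exact fun w => LocCohZ46.exact_HW (le_top : A ≤ ⊤) F w (hH.elim _ _)

end Groth.Agent.SpecVan49
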