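import Groth.Agent.SpecSp50.Basic
import Groth.Agent.TopCoh49.Continuity

/-!
Sections near compact generalization-stable subsets of spectral spaces, and continuity of cohomology there.
-/

universe u

open CategoryTheory Limits TopologicalSpace Opposite Abelian Topology
open Groth.Agent.TopCoh49

namespace Groth.Agent.SpecVan49

variable {X : TopCat.{u}} [SpectralSpace X]

/-- A finite intersection of compact opens is a compact open. -/
lemma isCompact_finsetInf {ι : Type*} (s : Finset ι) (U : ι → Opens X)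
    (hU : ∀ i ∈ s, IsCompact (U i : Set X)) : IsCompact ((s.inf U : Opens X) : Set X) := by
  classical
  induction s using Finset.induction with
  | empty => simpa using isCompact_univ
  | @insert a s _ ih =>
    rw [Finset.inf_insert]
    exact QuasiSeparatedSpace.inter_isCompact _ _ (U a).2 (hU a (Finset.mem_insert_self a s)) (s.inf U).2
      (ih fun i hi => hU i (Finset.mem_insert_of_mem hi))

variable {S : Set X}

/-- A compact generalization-stable set is the intersection of its compact open neighbourhoods. -/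
lemma exists_qc_not_mem (hS : IsCompact S) (hg : StableUnderGeneralization S) {x : X} (hx : x ∉ S) :
    ∃ O : Opens X, IsCompact (O : Set X) ∧ S ⊆ O ∧ x ∉ O := by
  have h : ∀ k : S, ∃ O : Opens X, IsCompact (O : Set X) ∧ k.1 ∈ O ∧ x ∉ O := fun k => by
    have hk : ¬ x ⤳ k.1 := fun h => hx (hg h k.2)
    rw [specializes_iff_forall_open] at hk
    push Not at hk
    obtain ⟨O, hO, hkO, hxO⟩ := hk
    obtain ⟨B, ⟨hBo, hBc⟩, hkB, hBO⟩ :=
      (PrespectralSpace.isTopologicalBasis (X := X)).exists_subset_of_mem_open hkO hO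
    exact ⟨⟨B, hBo⟩, hBc, hkB, fun h => hxO (hBO h)⟩
  choose O hOc hkO hxO using h
  obtain ⟨t, ht⟩ := hS.elim_finite_subcover (fun k : S => (O k : Set X)) (fun k => (O k).2)
    (fun k hk => Set.mem_iUnion.2 ⟨⟨k, hk⟩, hkO _⟩)
  refine ⟨⟨⋃ k ∈ t, (O k : Set X), isOpen_biUnion fun k _ => (O k).2⟩,
    t.finite_toSet.isCompact_biUnion fun k _ => hOc k, ht, fun h => ?_⟩
  obtain ⟨k, _, hk⟩ := Set.mem_iUnion₂.1 h
  exact hxO k hk

/-- Containments near a compact generalization-stable set spread to a neighbourhood. -/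
lemma exists_qc_nhd (hS : IsCompact S) (hg : StableUnderGeneralization S) {C N : Opens X}
    (hC : IsCompact (C : Set X)) (h : (C : Set X) ∩ S ⊆ N) :
    ∃ O : Opens X, IsCompact (O : Set X) ∧ S ⊆ O ∧ C ⊓ O ≤ N := by
  let ι := Option {O : Opens X // IsCompact (O : Set X) ∧ S ⊆ O}
  let Z : ι → Opens X := fun o => o.elim C Subtype.val
  have hZc : ∀ o, IsCompact (Z o : Set X) := fun o => by cases o with
    | none => exact hC
    | some O => exact O.2.1
  obtain ⟨s, hs⟩ := SpecSp50.exists_finset_subset_of_iInter_subset (fun o => (Z o : Set X))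
    (fun o => SpecSp50.isClosed_cons_of_qc (Z o).2 (hZc o)) (SpecSp50.isOpen_cons_of_isOpen N.2)
    (fun x hx => h ⟨Set.mem_iInter.1 hx none, by
      by_contra hxS
      obtain ⟨O, hOc, hSO, hxO⟩ := exists_qc_not_mem hS hg hxS
      exact hxO (Set.mem_iInter.1 hx (some ⟨O, hOc, hSO⟩))⟩)
  classical
  refine ⟨s.eraseNone.inf Subtype.val, isCompact_finsetInf _ _ fun O _ => O.2.1, ?_, fun x hx => hs ?_⟩
  · intro x hx
    rw [SetLike.mem_coe, Finset.inf_eq_iInf]
    rw [← Finset.inf_eq_iInf, ← SetLike.mem_coe, Opens.coe_finset_inf]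
    simp only [Finset.inf_set_eq_iInter, Function.comp, Set.mem_iInter]
    exact fun O _ => O.2.2 hx
  · refine Set.mem_iInter₂.2 fun o ho => ?_
    cases o with
    | none => exact hx.1
    | some O =>
      exact (Finset.inf_le (f := Subtype.val) (Finset.mem_eraseNone.2 ho) : _ ≤ O.1) hx.2

/-- A compact generalization-stable set meets a compact open in a compact set. -/
lemma isCompact_inter (hS : IsCompact S) (hg : StableUnderGeneralization S) {C : Opens X}
    (hC : IsCompact (C : Set X)) : IsCompact ((C : Set X) ∩ S) := by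
  refine SpecSp50.isCompact_of_isClosed_cons ?_
  have e : (C : Set X) ∩ S = (C : Set X) ∩
      ⋂ O : {O : Opens X // IsCompact (O : Set X) ∧ S ⊆ O}, (O.1 : Set X) := by
    refine congrArg _ (Set.Subset.antisymm (fun x hx => Set.mem_iInter.2 fun O => O.2.2 hx) fun x hx => ?_)
    by_contra hxS
    obtain ⟨O, hOc, hSO, hxO⟩ := exists_qc_not_mem hS hg hxS
    exact hxO (Set.mem_iInter.1 hx ⟨O, hOc, hSO⟩)
  rw [e]
  exact @IsClosed.inter X _ _ (constructibleTopology X) (SpecSp50.isClosed_cons_of_qc C.2 hC)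
    (@isClosed_iInter X _ (constructibleTopology X) _ fun O => SpecSp50.isClosed_cons_of_qc O.1.2 O.2.1)

variable {Z : TopCat.{u}} (i : Z ⟶ X)

/-- A section of the inverse image comes from a section near a compact generalization-stable set. -/
lemma exists_ext_near (hi : IsInducing i) {K : Set Z} (hK : IsCompact K)
    (hg : StableUnderGeneralization (i '' K)) (F : CohTop.Ab X) {W : Opens Z} (hW : K ⊆ W)
    (s : ((CohTop.pull i).obj F).obj.obj (op W)) :
    ∃ (Ω : Opens X) (t : F.obj.obj (op Ω)) (W' : Opens Z) (h : W' ≤ (Opens.map i).obj Ω) (h' : W' ≤ W),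
      i '' K ⊆ Ω ∧ K ⊆ W' ∧
        rs ((CohTop.pull i).obj F).obj h ((unitPre i F).app (op Ω) t) =
          rs ((CohTop.pull i).obj F).obj h' s := by
  classical
  let G := (CohTop.pull i).obj F
  let P : Set Z → Prop := fun C => ∃ (Ω : Opens X), IsCompact (Ω : Set X) ∧
    ∃ t : F.obj.obj (op Ω), C ∩ K ⊆ i ⁻¹' (Ω : Set X) ∧ ∀ w ∈ K, ∀ (hwΩ : i w ∈ Ω) (hwW : w ∈ W),
      stalkUnit i F w (germ F (i w) hwΩ t) = germ G w hwW s
  have hP : P K := by
    refine hK.induction_on (p := P)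
      ⟨⊥, by simp, 0, by simp, fun w _ hw => absurd hw (by simp)⟩ ?_ ?_ ?_
    · rintro C C' hCC' ⟨Ω, hΩ, t, hsub, ht⟩
      exact ⟨Ω, hΩ, t, (Set.inter_subset_inter_left _ hCC').trans hsub, ht⟩
    · rintro C₁ C₂ ⟨Ω₁, hΩ₁, t₁, hC₁, ht₁⟩ ⟨Ω₂, hΩ₂, t₂, hC₂, ht₂⟩
      obtain ⟨N, hN₁, hN₂, hN, hNt⟩ := exists_agree F t₁ t₂
      have hC : IsCompact ((Ω₁ ⊓ Ω₂ : Opens X) : Set X) :=
        QuasiSeparatedSpace.inter_isCompact _ _ Ω₁.2 hΩ₁ Ω₂.2 hΩ₂
      obtain ⟨O, hOc, hKO, hON⟩ := exists_qc_nhd (hK.image i.hom.continuous) hg hC (N := N) (by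
        rintro _ ⟨⟨ha, hb⟩, ⟨w, hw, rfl⟩⟩
        exact hN _ ha hb ((stalkUnit_bijective i F w).1
          ((ht₁ w hw ha (hW hw)).trans (ht₂ w hw hb (hW hw)).symm)))
      have hle : (Ω₁ ⊓ O) ⊓ (Ω₂ ⊓ O) ≤ N := fun x hx => hON ⟨⟨hx.1.1, hx.2.1⟩, hx.1.2⟩
      obtain ⟨t, e₁, e₂⟩ := exists_glue₂ F (U := Ω₁ ⊓ O) (V := Ω₂ ⊓ O) (rs F.obj inf_le_left t₁)
        (rs F.obj inf_le_left t₂) (by
          have e := congrArg (rs F.obj hle) hNt
          rw [rs_rs, rs_rs] at e
          rw [rs_rs, rs_rs]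
          exact e)
      refine ⟨(Ω₁ ⊓ O) ⊔ (Ω₂ ⊓ O), ?_, t, ?_, ?_⟩
      · rw [Opens.coe_sup]
        exact (QuasiSeparatedSpace.inter_isCompact _ _ Ω₁.2 hΩ₁ O.2 hOc).union
          (QuasiSeparatedSpace.inter_isCompact _ _ Ω₂.2 hΩ₂ O.2 hOc)
      · rintro z ⟨hz | hz, hzK⟩
        · exact Or.inl ⟨hC₁ ⟨hz, hzK⟩, hKO ⟨z, hzK, rfl⟩⟩
        · exact Or.inr ⟨hC₂ ⟨hz, hzK⟩, hKO ⟨z, hzK, rfl⟩⟩
      · intro w hw hwΩ hwW
        rcases hwΩ with h | h
        · rw [← germ_rs F le_sup_left _ h t, e₁, germ_rs]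
          exact ht₁ w hw _ hwW
        · rw [← germ_rs F le_sup_right _ h t, e₂, germ_rs]
          exact ht₂ w hw _ hwW
    · intro z hz
      obtain ⟨a, ha⟩ := (stalkUnit_bijective i F z).2 (germ G z (hW hz) s)
      obtain ⟨V, hzV, t₀, ht₀⟩ := TopCat.Presheaf.exists_germ_eq F.obj a
      obtain ⟨N, hN₁, hN₂, hN, hNt⟩ := exists_agree G ((unitPre i F).app (op V) t₀) s
      obtain ⟨O, hO, hON⟩ := hi.isOpen_iff.1 N.2
      have hzN : z ∈ N := hN z hzV (hW hz) ((germ_stalkUnit_apply i F z V hzV t₀).symm.trans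
        ((congrArg _ ht₀).trans ha))
      obtain ⟨B, ⟨hBo, hBc⟩, hzB, hBsub⟩ :=
        (PrespectralSpace.isTopologicalBasis (X := X)).exists_subset_of_mem_open
          (show i z ∈ (V : Set X) ∩ O from ⟨hzV, hON.ge hzN⟩) (V.2.inter hO)
      let B' : Opens X := ⟨B, hBo⟩
      have hBV : B' ≤ V := fun y hy => (hBsub hy).1
      refine ⟨i ⁻¹' B, mem_nhdsWithin_of_mem_nhds ((hBo.preimage i.hom.continuous).mem_nhds hzB),
        B', hBc, rs F.obj hBV t₀, Set.inter_subset_left, fun w _ hwB hwW => ?_⟩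
      have hwN : w ∈ N := hON.le (hBsub hwB).2
      rw [germ_rs]
      refine (germ_stalkUnit_apply i F w V (hBV hwB) t₀).trans ?_
      exact ((germ_rs G hN₁ w hwN _).symm.trans (congrArg _ hNt)).trans (germ_rs G hN₂ w hwN s)
  obtain ⟨Ω, -, t, hKΩ', ht⟩ := hP
  have hKΩ : K ⊆ i ⁻¹' (Ω : Set X) := fun z hz => hKΩ' ⟨hz, hz⟩
  obtain ⟨N, hN₁, hN₂, hN, hNt⟩ := exists_agree G ((unitPre i F).app (op Ω) t) s
  refine ⟨Ω, t, N, hN₁, hN₂, Set.image_subset_iff.2 hKΩ, fun z hz => hN z (hKΩ hz) (hW hz) ?_, hNt⟩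
  exact (germ_stalkUnit_apply i F z Ω _ t).symm.trans (ht z hz _ _)

end Groth.Agent.SpecVan49
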