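import Groth.Agent.SpecVan49.Supp

/-!
Local behaviour of the unit to a direct image from a subspace, and biproducts.
-/

universe u

open CategoryTheory Limits TopologicalSpace Opposite Abelian Topology
open Groth.Agent.TopCoh49

namespace Groth.Agent.SpecVan49

variable {X Y : TopCat.{u}} (i : Y ⟶ X) (F : CohTop.Ab X)

/-- Near a point of an inducing subspace, sections of the direct image come from the sheaf. -/
lemma exists_unit_eq (hi : IsInducing i) {W : Opens X} (y : Y) (hy : i y ∈ W)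
    (c : ((CohTop.push i).obj ((CohTop.pull i).obj F)).obj.obj (op W)) :
    ∃ (W' : Opens X) (hW : W' ≤ W) (r : F.obj.obj (op W')), i y ∈ W' ∧
      (un i F).hom.app (op W') r = rs ((CohTop.push i).obj ((CohTop.pull i).obj F)).obj hW c := by
  let G := (CohTop.pull i).obj F
  let c' : G.obj.obj (op ((Opens.map i).obj W)) := c
  obtain ⟨a, ha⟩ := (stalkUnit_bijective i F y).2 (germ G (U := (Opens.map i).obj W) y hy c')
  obtain ⟨V, hyV, r, hr⟩ := TopCat.Presheaf.exists_germ_eq F.obj a
  obtain ⟨N, hN₁, hN₂, hN, hNt⟩ := exists_agree G ((unitPre i F).app (op V) r) c'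
  obtain ⟨O, hO, hON⟩ := hi.isOpen_iff.1 N.2
  have hyN : y ∈ N := hN y hyV hy ((germ_stalkUnit_apply i F y V hyV r).symm.trans
    ((congrArg _ hr).trans ha))
  let W' : Opens X := V ⊓ W ⊓ ⟨O, hO⟩
  have hWV : W' ≤ V := fun x hx => hx.1.1
  have hWW : W' ≤ W := fun x hx => hx.1.2
  have hWN : (Opens.map i).obj W' ≤ N := fun z hz => hON.le hz.2
  refine ⟨W', hWW, rs F.obj hWV r, ⟨⟨hyV, hy⟩, hON.ge hyN⟩, ?_⟩
  refine (ConcreteCategory.congr_hom ((unitPre i F).naturality (homOfLE hWV).op) r).trans ?_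
  have h := congrArg (rs G.obj hWN) hNt
  rw [rs_rs, rs_rs] at h
  exact h

/-- Direct images from a closed subspace have no sections away from it. -/
lemma eq_of_le_compl (G : CohTop.Ab Y) {W : Opens X} (hW : ∀ y, i y ∉ W)
    (a b : ((CohTop.push i).obj G).obj.obj (op W)) : a = b := by
  have e : (Opens.map i).obj W = ⊥ := eq_bot_iff.2 fun z hz => (hW z hz).elim
  have : Subsingleton (G.obj.obj (op ((Opens.map i).obj W))) := by
    rw [e]
    exact subsingleton_sections_bot G
  exact this.elim _ _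

/-- The unit of a closed subspace is an epimorphism. -/
lemma epi_un (hi : IsClosedEmbedding i) : Epi (un i F) :=
  epi_of_locally_surjective _ fun W s x hx => by
    by_cases hxr : x ∈ Set.range i
    · obtain ⟨y, rfl⟩ := hxr
      obtain ⟨W', hW, r, hy, hr⟩ := exists_unit_eq i F hi.isInducing y hx s
      exact ⟨W', hW, hy, r, hr⟩
    · let C : Opens X := ⟨(Set.range i)ᶜ, hi.isClosed_range.isOpen_compl⟩
      have hC : ∀ y, i y ∉ W ⊓ C := fun y hy => hy.2 ⟨y, rfl⟩
      exact ⟨W ⊓ C, inf_le_left, ⟨hx, hxr⟩, 0, eq_of_le_compl i _ hC _ _⟩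

/-- Sections killed by the unit vanish near the subspace. -/
lemma germ_eq_zero_of_un {W : Opens X} (y : Y) (hy : i y ∈ W) (t : F.obj.obj (op W))
    (h : (un i F).hom.app (op W) t = 0) : germ F (i y) hy t = 0 := by
  refine (stalkUnit_bijective i F y).1 ?_
  rw [map_zero]
  refine (germ_stalkUnit_apply i F y W hy t).trans ?_
  exact (congrArg _ h).trans (map_zero _)

/-- A class of a biproduct is determined by its components. -/
lemma emap_biprod_eq_zero {A B : CohTop.Ab X} (p : ℕ) (U : Opens X) (c : E (A ⊞ B) p U)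
    (h₁ : emap (biprod.fst : A ⊞ B ⟶ A) p U c = 0) (h₂ : emap (biprod.snd : A ⊞ B ⟶ B) p U c = 0) :
    c = 0 := by
  have e : c = emap (biprod.inl : A ⟶ A ⊞ B) p U (emap (biprod.fst : A ⊞ B ⟶ A) p U c) +
      emap (biprod.inr : B ⟶ A ⊞ B) p U (emap (biprod.snd : A ⊞ B ⟶ B) p U c) := by
    rw [emap_emap, emap_emap]
    change c = c.comp _ (add_zero p) + c.comp _ (add_zero p)
    rw [← Ext.comp_add, ← Ext.mk₀_add, biprod.total, Ext.comp_mk₀_id]
  rw [e, h₁, h₂, map_zero, map_zero, add_zero]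

end Groth.Agent.SpecVan49
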