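import Groth.Agent.SpecVan49.Dense
import Groth.Agent.SpecVan49.Unit

/-!
Vanishing of cohomology above the dimension on spectral spaces.
-/

universe u

open CategoryTheory Limits TopologicalSpace Opposite Abelian Topology
open Groth.Agent.TopCoh49

namespace Groth.Agent.SpecVan49

variable {X : TopCat.{u}} [SpectralSpace X]

lemma isClosedEmbedding_subIn {S : Set X} (hS : IsClosed S) : IsClosedEmbedding (subIn S) :=
  hS.isClosedEmbedding_subtypeVal

lemma spectralSpace_closed {S : Set X} (hS : IsClosed S) : SpectralSpace (TopCat.of S) :=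
  Groth.Agent.Spec91.spectralSpace_of_isClosedEmbedding (isClosedEmbedding_subIn hS)

lemma isCompact_map_closed {S : Set X} (hS : IsClosed S) {U : Opens X} (hU : IsCompact (U : Set X)) :
    IsCompact ((Opens.map (subIn S)).obj U : Set (TopCat.of S)) :=
  (isClosedEmbedding_subIn hS).isCompact_preimage hU

lemma exists_gen_of_mem_closure {O : Opens X} (hO : IsCompact (O : Set X)) {x : X}
    (hx : x ∈ closure (O : Set X)) : ∃ a ∈ O, a ⤳ x :=
  SpecSp50.exists_specializes_of_mem_closure (SpecSp50.isClosed_cons_of_qc O.2 hO) hx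

omit [SpectralSpace X] in
lemma pullE_top_eq_zero {Z : TopCat.{u}} (i : Z ⟶ X) {F : CohTop.Ab X} {p : ℕ} {U : Opens X}
    (h : ⊤ ≤ (Opens.map i).obj U) {ξ : E F p ⊤} (h0 : eres F p (le_top : U ≤ ⊤) ξ = 0) :
    pullE i F p (fun _ _ => trivial : (⊤ : Opens Z) ≤ (Opens.map i).obj ⊤) ξ = 0 := by
  rw [← pullE_eres i F p (le_top : U ≤ ⊤) h, h0, map_zero]

omit [SpectralSpace X] in
lemma eres_pullE_eq_zero {Z : TopCat.{u}} (i : Z ⟶ X) {F : CohTop.Ab X} {p : ℕ} {U : Opens X}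
    {ξ : E F p ⊤} (h0 : eres F p (le_top : U ≤ ⊤) ξ = 0) :
    eres _ p (le_top : (Opens.map i).obj U ≤ ⊤)
      (pullE i F p (fun _ _ => trivial : (⊤ : Opens Z) ≤ (Opens.map i).obj ⊤) ξ) = 0 := by
  rw [eres_pullE, ← pullE_eres i F p (le_top : U ≤ ⊤) le_rfl, h0, map_zero]

/-- A class vanishing on the closure and on the complement of a compact open vanishes. -/
theorem eq_zero_of_split {d : ℕ} (hT : VD.{u} d) (hdim : DimLT (Set.univ : Set X) (d + 1))
    (O : Opens X) (hO : IsCompact (O : Set X)) (F : CohTop.Ab X) (p : ℕ) (hp : d + 1 ≤ p) (ξ : E F p ⊤)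
    (h₁ : pullE (subIn (closure (O : Set X))) F p (fun _ _ => trivial : ⊤ ≤ (Opens.map _).obj ⊤) ξ = 0)
    (h₂ : pullE (subIn (O : Set X)ᶜ) F p (fun _ _ => trivial : ⊤ ≤ (Opens.map _).obj ⊤) ξ = 0) : ξ = 0 := by
  set i₁ := subIn (closure (O : Set X))
  set i₂ := subIn (O : Set X)ᶜ
  have hi₁ : IsClosedEmbedding i₁ := isClosedEmbedding_subIn isClosed_closure
  have hi₂ : IsClosedEmbedding i₂ := isClosedEmbedding_subIn O.2.isClosed_compl
  let A₁ := (CohTop.push i₁).obj ((CohTop.pull i₁).obj F)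
  let A₂ := (CohTop.push i₂).obj ((CohTop.pull i₂).obj F)
  let f : F ⟶ A₁ ⊞ A₂ := biprod.lift (un i₁ F) (un i₂ F)
  have hf₁ : f ≫ biprod.fst = un i₁ F := biprod.lift_fst _ _
  have hf₂ : f ≫ biprod.snd = un i₂ F := biprod.lift_snd _ _
  have hm : Mono f := by
    have : ∀ V, Mono (f.hom.app V) := fun V => (AddCommGrpCat.mono_iff_injective _).2
      ((injective_iff_map_eq_zero _).2 fun t ht => by
        have e₁ : (un i₁ F).hom.app V t = 0 := by
          rw [← hf₁]
          exact (congrArg ((biprod.fst : A₁ ⊞ A₂ ⟶ A₁).hom.app V) ht).trans (map_zero _)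
        have e₂ : (un i₂ F).hom.app V t = 0 := by
          rw [← hf₂]
          exact (congrArg ((biprod.snd : A₁ ⊞ A₂ ⟶ A₂).hom.app V) ht).trans (map_zero _)
        refine eq_of_germ_eq F fun x hx => ?_
        rw [map_zero]
        by_cases hxO : x ∈ O
        · exact germ_eq_zero_of_un i₁ F (W := V.unop) ⟨x, subset_closure hxO⟩ hx t e₁
        · exact germ_eq_zero_of_un i₂ F (W := V.unop) ⟨x, hxO⟩ hx t e₂)
    have : Mono f.hom := NatTrans.mono_of_mono_app _
    exact (sheafToPresheaf _ _).mono_of_mono_map this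
  let S := ShortComplex.mk f (cokernel.π f) (cokernel.condition f)
  have hS : S.ShortExact := { exact := ShortComplex.exact_cokernel f }
  have hfξ : emap f p ⊤ ξ = 0 := by
    refine emap_biprod_eq_zero p ⊤ _ ?_ ?_
    · rw [emap_emap, hf₁]
      refine (cmpE_bijective i₁ hi₁ p _ ⊤).1 ?_
      rw [map_zero, cmpE_emap_un]
      exact h₁
    · rw [emap_emap, hf₂]
      refine (cmpE_bijective i₂ hi₂ p _ ⊤).1 ?_
      rw [map_zero, cmpE_emap_un]
      exact h₂
  obtain ⟨w, rfl⟩ := exact₁ hS (Nat.sub_add_cancel (show 1 ≤ p by omega)) ⊤ ξ hfξ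
  have hY : DimLT (closure (O : Set X) ∩ (O : Set X)ᶜ) d :=
    hdim.of_generized O.2 (Set.subset_univ _) (fun x hx => hx.2) fun x hx =>
      (exists_gen_of_mem_closure hO hx.1).imp fun a h => ⟨h.1, trivial, h.2⟩
  have hQ : Subsingleton (E S.X₃ (p - 1) ⊤) := by
    refine subsingleton_E_of_supported_closed hT (isClosed_closure.inter O.2.isClosed_compl) hY _
      (fun x hx => ?_) (p - 1) (by omega)
    refine @AddCommGrpCat.isZero_of_subsingleton _ (subsingleton_of_forall_eq 0 fun s => ?_)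
    obtain ⟨V, hxV, t, rfl⟩ := TopCat.Presheaf.exists_germ_eq S.X₃.obj s
    obtain ⟨Ws, hWs, cs, hsup, hcs⟩ := exists_local_preimage (cokernel.π f) V t
    obtain ⟨k, hk⟩ := Opens.mem_iSup.1 (hsup.ge hxV)
    have key : ∃ (W : Opens X) (hW : W ≤ Ws k) (r : F.obj.obj (op W)), x ∈ W ∧
        f.hom.app (op W) r = rs (A₁ ⊞ A₂).obj hW (cs k) := by
      have ext' : ∀ (W : Opens X) (a b : (A₁ ⊞ A₂).obj.obj (op W)),
          (biprod.fst : A₁ ⊞ A₂ ⟶ A₁).hom.app (op W) a = (biprod.fst : A₁ ⊞ A₂ ⟶ A₁).hom.app (op W) b →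
          (biprod.snd : A₁ ⊞ A₂ ⟶ A₂).hom.app (op W) a = (biprod.snd : A₁ ⊞ A₂ ⟶ A₂).hom.app (op W) b →
          a = b := by
        intro W a b e₁ e₂
        have e : ∀ z : (A₁ ⊞ A₂).obj.obj (op W),
            z = (biprod.inl : A₁ ⟶ A₁ ⊞ A₂).hom.app (op W) ((biprod.fst : A₁ ⊞ A₂ ⟶ A₁).hom.app (op W) z) +
              (biprod.inr : A₂ ⟶ A₁ ⊞ A₂).hom.app (op W) ((biprod.snd : A₁ ⊞ A₂ ⟶ A₂).hom.app (op W) z) :=
          fun z => (ConcreteCategory.congr_hom (NatTrans.congr_app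
            (congrArg (fun φ => φ.hom) (biprod.total (X := A₁) (Y := A₂))) (op W)) z).symm
        rw [e a, e b, e₁, e₂]
      let c₁ := (biprod.fst : A₁ ⊞ A₂ ⟶ A₁).hom.app (op (Ws k)) (cs k)
      let c₂ := (biprod.snd : A₁ ⊞ A₂ ⟶ A₂).hom.app (op (Ws k)) (cs k)
      by_cases hxO : x ∈ O
      · obtain ⟨W, hW, r, hxW, hr⟩ := exists_unit_eq i₁ F hi₁.isInducing ⟨x, subset_closure hxO⟩ hk c₁
        have hWO : W ⊓ O ≤ W := inf_le_left
        refine ⟨W ⊓ O, hWO.trans hW, rs F.obj hWO r, ⟨hxW, hxO⟩, ext' _ _ _ ?_ ?_⟩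
        · refine (ConcreteCategory.congr_hom (NatTrans.congr_app (congrArg (fun φ => φ.hom) hf₁) _) _).trans ?_
          refine ((un i₁ F).hom.naturality_apply (homOfLE hWO).op r).trans ?_
          refine (congrArg (rs A₁.obj hWO) hr).trans ?_
          exact (rs_rs _ _ _ _).trans
            ((biprod.fst : A₁ ⊞ A₂ ⟶ A₁).hom.naturality_apply (homOfLE (hWO.trans hW)).op (cs k)).symm
        · exact eq_of_le_compl i₂ _ (show ∀ y, i₂ y ∉ W ⊓ O from fun y hy => y.2 hy.2) _ _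
      · have hxc : x ∉ closure (O : Set X) := fun h => hx ⟨h, hxO⟩
        obtain ⟨W, hW, r, hxW, hr⟩ := exists_unit_eq i₂ F hi₂.isInducing ⟨x, hxO⟩ hk c₂
        let C : Opens X := ⟨(closure (O : Set X))ᶜ, isClosed_closure.isOpen_compl⟩
        have hWO : W ⊓ C ≤ W := inf_le_left
        refine ⟨W ⊓ C, hWO.trans hW, rs F.obj hWO r, ⟨hxW, hxc⟩, ext' _ _ _ ?_ ?_⟩
        · exact eq_of_le_compl i₁ _ (show ∀ y, i₁ y ∉ W ⊓ C from fun y hy => hy.2 y.2) _ _
        · refine (ConcreteCategory.congr_hom (NatTrans.congr_app (congrArg (fun φ => φ.hom) hf₂) _) _).trans ?_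
          refine ((un i₂ F).hom.naturality_apply (homOfLE hWO).op r).trans ?_
          refine (congrArg (rs A₂.obj hWO) hr).trans ?_
          exact (rs_rs _ _ _ _).trans
            ((biprod.snd : A₁ ⊞ A₂ ⟶ A₂).hom.naturality_apply (homOfLE (hWO.trans hW)).op (cs k)).symm
    obtain ⟨W, hW, r, hxW, hr⟩ := key
    refine (germ_rs S.X₃ (hW.trans (hWs k)) x hxW t).symm.trans ((congrArg _ ?_).trans (map_zero _))
    refine Eq.trans ?_ ((ConcreteCategory.congr_hom (NatTrans.congr_app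
      (congrArg (fun φ => φ.hom) (cokernel.condition f)) (op W)) r))
    refine (rs_rs S.X₃.obj (hWs k) hW t).symm.trans ((congrArg (rs S.X₃.obj hW) (hcs k)).symm.trans ?_)
    refine ((cokernel.π f).hom.naturality_apply (homOfLE hW).op (cs k)).symm.trans ?_
    exact (congrArg ((cokernel.π f).hom.app (op W)) hr).symm
  rw [hQ.elim w 0, map_zero]

/-- Classes killed on a pair of compact opens covering the space vanish in high degrees. -/
theorem eq_zero_of_two {d : ℕ} (hT : ∀ e ≤ d, VD.{u} e) (hdim : DimLT (Set.univ : Set X) (d + 1))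
    (U V : Opens X) (hU : IsCompact (U : Set X)) (hV : IsCompact (V : Set X)) (hUV : ⊤ ≤ U ⊔ V)
    (F : CohTop.Ab X) (p : ℕ) (hp : d + 1 ≤ p) (ξ : E F p ⊤)
    (hξU : eres F p (le_top : U ≤ ⊤) ξ = 0) (hξV : eres F p (le_top : V ≤ ⊤) ξ = 0) : ξ = 0 := by
  refine eq_zero_of_split (hT d le_rfl) hdim U hU F p hp ξ ?_
    (pullE_top_eq_zero (subIn (U : Set X)ᶜ) (U := V) (fun z _ => (hUV trivial : (z.1 : X) ∈ U ⊔ V).resolve_left z.2) hξV)
  set i := subIn (closure (U : Set X))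
  have : SpectralSpace (TopCat.of (closure (U : Set X))) := spectralSpace_closed isClosed_closure
  have hi : IsInducing i := isInducing_subIn _
  have hdim₁ : DimLT (Set.univ : Set (TopCat.of (closure (U : Set X)))) (d + 1) :=
    hdim.of_isInducing hi fun _ _ => trivial
  let U₁ := (Opens.map i).obj U
  let V₁ := (Opens.map i).obj V
  have hU₁ : IsCompact (U₁ : Set (TopCat.of (closure (U : Set X)))) := isCompact_map_closed isClosed_closure hU
  have hV₁ : IsCompact (V₁ : Set (TopCat.of (closure (U : Set X)))) := isCompact_map_closed isClosed_closure hV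
  set ξ₁ := pullE i F p (fun _ _ => trivial : ⊤ ≤ (Opens.map i).obj ⊤) ξ
  have hξU₁ : eres _ p (le_top : U₁ ≤ ⊤) ξ₁ = 0 := eres_pullE_eq_zero i hξU
  have hξV₁ : eres _ p (le_top : V₁ ≤ ⊤) ξ₁ = 0 := eres_pullE_eq_zero i hξV
  refine eq_zero_of_split (hT d le_rfl) hdim₁ V₁ hV₁ _ p hp ξ₁ ?_
    (pullE_top_eq_zero (subIn (V₁ : Set (TopCat.of (closure (U : Set X))))ᶜ) (U := U₁)
      (fun z _ => (hUV trivial : i z.1 ∈ U ⊔ V).resolve_right z.2) hξU₁)
  set j := subIn (closure (V₁ : Set (TopCat.of (closure (U : Set X)))))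
  have : SpectralSpace (TopCat.of (closure (V₁ : Set (TopCat.of (closure (U : Set X)))))) :=
    spectralSpace_closed isClosed_closure
  have hj : IsInducing j := isInducing_subIn _
  let U₂ := (Opens.map j).obj U₁
  let V₂ := (Opens.map j).obj V₁
  have hU₂ := isCompact_map_closed (S := closure (V₁ : Set (TopCat.of (closure (U : Set X))))) isClosed_closure hU₁
  have hV₂ := isCompact_map_closed (S := closure (V₁ : Set (TopCat.of (closure (U : Set X))))) isClosed_closure hV₁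
  set ξ₂ := pullE j ((CohTop.pull i).obj F) p (fun _ _ => trivial : ⊤ ≤ (Opens.map j).obj ⊤) ξ₁
  have hξU₂ : eres _ p (le_top : U₂ ≤ ⊤) ξ₂ = 0 := eres_pullE_eq_zero j hξU₁
  have hξV₂ : eres _ p (le_top : V₂ ≤ ⊤) ξ₂ = 0 := eres_pullE_eq_zero j hξV₁
  have hcov : U₂ ⊔ V₂ = ⊤ := top_le_iff.1 fun z _ =>
    (hUV (show i (j z) ∈ (⊤ : Opens X) from trivial)).imp id id
  have hdense : ∀ z, ∃ a ∈ U₂ ⊓ V₂, a ⤳ z := fun z => by
    obtain ⟨v, hv, hvz⟩ := exists_gen_of_mem_closure hV₁ z.2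
    obtain ⟨w, hw, hwv⟩ := exists_gen_of_mem_closure hU (v.2 : (v : X) ∈ closure (U : Set X))
    let w' : TopCat.of (closure (U : Set X)) := ⟨w, subset_closure hw⟩
    have hwv' : w' ⤳ v := hi.specializes_iff.1 hwv
    have hwV : w' ∈ V₁ := hwv'.mem_open V₁.2 hv
    exact ⟨⟨w', subset_closure hwV⟩, ⟨hw, hwV⟩, hj.specializes_iff.1 (hwv'.trans hvz)⟩
  have hA : IsCompact ((U₂ ⊓ V₂ : Opens _) : Set (TopCat.of (closure (V₁ : Set (TopCat.of (closure (U : Set X))))))) :=
    QuasiSeparatedSpace.inter_isCompact _ _ U₂.2 hU₂ V₂.2 hV₂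
  obtain ⟨q, rfl⟩ : ∃ q, p = q + 1 := ⟨p - 1, by omega⟩
  obtain ⟨η, hη⟩ := exists_overlap_class q _ U₂ V₂ (eres _ (q + 1) (le_top : U₂ ⊔ V₂ ≤ ⊤) ξ₂)
    (by rw [eres_eres]; exact hξU₂) (by rw [eres_eres]; exact hξV₂)
  obtain ⟨y, hy⟩ := eres_surjective_of_dense hT (hdim₁.of_isInducing hj fun _ _ => trivial)
    (U₂ ⊓ V₂) hA hdense _ q (by omega) η
  have h := hη U₂ V₂ le_rfl le_rfl (eres _ q le_top y) (by rw [eres_self, eres_eres]; exact hy.symm)
  rw [eres_eres] at h
  have h2 := congrArg (eres _ (q + 1) hcov.ge) h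
  rwa [eres_eres, eres_self, map_zero] at h2

omit [SpectralSpace X] in
lemma eres_injective_eq {F : CohTop.Ab X} {p : ℕ} {V W : Opens X} (e : V = W) (h : V ≤ W) :
    Function.Injective (eres F p h) := by
  subst e
  intro a b hab
  rwa [eres_self, eres_self] at hab

/-- Pullback to a compact open is injective. -/
lemma pullE_incl_injective {A : Opens X} (hA : IsCompact (A : Set X)) (F : CohTop.Ab X) (p : ℕ) :
    Function.Injective (pullE (CohCx.incl A) F p (fun z _ => z.2 : ⊤ ≤ (Opens.map (CohCx.incl A)).obj A)) := by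
  have hr : Set.range (CohCx.incl A) = (A : Set X) := Subtype.range_val
  refine (injective_iff_map_eq_zero _).2 fun x hx => ?_
  obtain ⟨W, hWA, hW, h0⟩ := (pullE_continuity_spectral (CohCx.incl A) A.isOpenEmbedding.isInducing
    (by rw [hr]; exact hA) (by rw [hr]; exact A.2.stableUnderGeneralization) p F).2 A
      (by rw [hr]) x hx
  have hWeq : W = A := le_antisymm hWA (by rw [hr] at hW; exact hW)
  exact eres_injective_eq hWeq hWA (h0.trans (map_zero _).symm)

end Groth.Agent.SpecVan49
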