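import Groth.Agent.SpecVan49.ClosedE
import Groth.Agent.SpecVan49.Dim
import Groth.Agent.TopCoh49.Vanish
import Groth.Agent.TopCoh49.Top
import Groth.Agent.TopCoh49.Soft
import Groth.Agent.LocCohZ46.Sheaf
import Groth.Agent.Spec91.Basic

/-!
Cohomology of sheaves with small support on spectral spaces.
-/

universe u

open CategoryTheory Limits TopologicalSpace Opposite Abelian Topology
open Groth.Agent.TopCoh49

namespace Groth.Agent.SpecVan49

/-- Cohomology vanishes in degrees at least `k` on spectral spaces with all chains of length below `k`. -/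
def VD (k : ℕ) : Prop :=
  ∀ (Y : TopCat.{u}) [SpectralSpace Y], DimLT (Set.univ : Set Y) k →
    ∀ (F : CohTop.Ab Y) (p : ℕ), k ≤ p → Subsingleton (E F p ⊤)

variable {X : TopCat.{u}}

lemma germ_eq_zero_of_isZero {G : CohTop.Ab X} {x : X} (h : IsZero (CohTop.stalk G x)) {V : Opens X}
    (hx : x ∈ V) (t : G.obj.obj (op V)) : germ G x hx t = 0 :=
  (AddCommGrpCat.subsingleton_of_isZero h).elim _ _

lemma isZero_of_stalks {G : CohTop.Ab X} (h : ∀ x, IsZero (CohTop.stalk G x)) : IsZero G := by
  rw [IsZero.iff_id_eq_zero]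
  ext V t
  refine eq_of_germ_eq G fun x hx => ?_
  rw [germ_eq_zero_of_isZero (h x) hx, germ_eq_zero_of_isZero (h x) hx]

lemma subsingleton_E_of_isZero {G : CohTop.Ab X} (h : IsZero G) (p : ℕ) (U : Opens X) :
    Subsingleton (E G p U) := ⟨fun a b => by
  have hid : ∀ c : E G p U, c = 0 := fun c => by
    rw [← Ext.comp_mk₀_id c, h.eq_of_src (𝟙 G) 0, Ext.mk₀_zero, Ext.comp_zero]
  rw [hid a, hid b]⟩

lemma subsingleton_E_of_iso {F G : CohTop.Ab X} (e : F ≅ G) (p : ℕ) (U : Opens X)
    (h : Subsingleton (E F p U)) : Subsingleton (E G p U) := ⟨fun a b => by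
  have hid : ∀ c : E G p U, c = emap e.hom p U (emap e.inv p U c) := fun c => by
    rw [emap_emap, e.inv_hom_id]
    exact (Ext.comp_mk₀_id c).symm
  rw [hid a, hid b, Subsingleton.elim (emap e.inv p U a) (emap e.inv p U b)]⟩

variable [SpectralSpace X]

/-- A closed subspace with short chains is acyclic in high degrees, for sheaves supported there. -/
theorem subsingleton_E_of_supported_closed {e : ℕ} (hT : VD.{u} e) {Y : Set X} (hY : IsClosed Y)
    (hdim : DimLT Y e) (G : CohTop.Ab X) (hG : ∀ x ∉ Y, IsZero (CohTop.stalk G x)) (p : ℕ) (hp : e ≤ p) :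
    Subsingleton (E G p ⊤) := by
  let i : TopCat.of Y ⟶ X := TopCat.ofHom ⟨Subtype.val, continuous_subtype_val⟩
  have hi : Topology.IsClosedEmbedding i := hY.isClosedEmbedding_subtypeVal
  have : SpectralSpace (TopCat.of Y) := Groth.Agent.Spec91.spectralSpace_of_isClosedEmbedding hi
  obtain ⟨G', ⟨eG⟩⟩ := (essImage_push_iff i hi G).2 fun x hx => hG x fun h => hx ⟨⟨x, h⟩, rfl⟩
  refine subsingleton_E_of_iso eG p ⊤ ?_
  have := hT (TopCat.of Y) (hdim.of_isInducing hi.isInducing fun y _ => y.2) G' p hp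
  have : Subsingleton (E G' p ((Opens.map i).obj ⊤)) := this
  exact (cmpE_bijective i hi p G' ⊤).1.subsingleton

/-- Sheaves whose support consists of points with short chains below are acyclic in high degrees. -/
theorem subsingleton_E_of_supported {e : ℕ} (hT : VD.{u} e) (G : CohTop.Ab X)
    (hG : ∀ x, ¬ IsZero (CohTop.stalk G x) → DimLT (closure {x}) e) (p : ℕ) (hp : e ≤ p) :
    Subsingleton (E G p ⊤) := by
  rcases Nat.eq_zero_or_pos e with rfl | he
  · refine subsingleton_E_of_isZero (isZero_of_stalks fun x => ?_) p ⊤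
    by_contra h
    exact (Set.eq_empty_iff_forall_notMem.1 (eq_empty_of_dimLT_zero (hG x h)) x) (subset_closure rfl)
  let I := {Y : Set X // IsClosed Y ∧ DimLT Y e}
  have : Nonempty I := ⟨⟨∅, isClosed_empty, dimLT_empty e⟩⟩
  have : IsDirectedOrder I := ⟨fun a b => ⟨⟨a.1 ∪ b.1, a.2.1.union b.2.1, a.2.2.union a.2.1 b.2.1 b.2.2⟩,
    Set.subset_union_left (t := b.1), Set.subset_union_right (s := a.1)⟩⟩
  let O : I → Opens X := fun Y => ⟨Y.1ᶜ, Y.2.1.isOpen_compl⟩
  have hO : ∀ {a b : I}, a ≤ b → O b ≤ O a := fun h x hx hxa => hx (h hxa)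
  have hlift : ∀ {a b : I}, a ≤ b →
      kernel.ι (LocCohZ46.unitU (O a) G) ≫ LocCohZ46.unitU (O b) G = 0 := fun {a b} h => by
    ext V t
    refine (LocCohZ46.unit_app_eq_zero_iff (O b) G V.unop _).2 ?_
    have h0 := congrArg (rs G.obj (inf_le_inf_left V.unop (hO h))) (LocCohZ46.suppι_res (O a) G V.unop t)
    exact (rs_rs G.obj inf_le_left (inf_le_inf_left V.unop (hO h)) _).symm.trans (h0.trans (map_zero _))
  let D : I ⥤ CohTop.Ab X :=
    { obj := fun a => CohCx.sectSupp (O a) G
      map := fun {a b} f => kernel.lift _ (kernel.ι (LocCohZ46.unitU (O a) G)) (hlift (leOfHom f))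
      map_id := fun a => (cancel_mono (kernel.ι (LocCohZ46.unitU (O a) G))).1
        ((kernel.lift_ι _ _ _).trans (Category.id_comp _).symm)
      map_comp := fun {a b c} f g => (cancel_mono (kernel.ι (LocCohZ46.unitU (O c) G))).1 (by
        erw [kernel.lift_ι, Category.assoc, kernel.lift_ι, kernel.lift_ι]) }
  let c : D ⟶ (Functor.const _).obj G :=
    { app := fun a => kernel.ι (LocCohZ46.unitU (O a) G)
      naturality := fun a b f => (kernel.lift_ι _ _ _).trans (Category.comp_id _).symm }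
  have : ∀ a, Mono (c.app a) := fun a => inferInstanceAs (Mono (kernel.ι (LocCohZ46.unitU (O a) G)))
  refine (VanishAbove.of_directed (d := e - 1) D G c (fun W s x hx => ?_) (fun a q hq => ?_)) p (by omega)
  · obtain ⟨V, ⟨hVo, hVc⟩, hxV, hVW⟩ :=
      (PrespectralSpace.isTopologicalBasis (X := X)).exists_subset_of_mem_open hx W.isOpen
    let V' : Opens X := ⟨V, hVo⟩
    let s' := rs G.obj (show V' ≤ W from hVW) s
    let T : Set X := {y | ∃ hy : y ∈ V', germ G y hy s' ≠ 0}
    have hT' : IsClosed[constructibleTopology X] T := by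
      obtain ⟨N, hN₁, hN₂, hN, hNt⟩ := exists_agree G s' (0 : G.obj.obj (op V'))
      have e : T = (V' : Set X) ∩ (N : Set X)ᶜ := by
        ext y
        constructor
        · rintro ⟨hy, hne⟩
          refine ⟨hy, fun hyN => hne ?_⟩
          rw [← germ_rs G hN₁ y hyN, hNt, germ_rs, map_zero]
        · rintro ⟨hy, hyN⟩
          exact ⟨hy, fun h => hyN (hN y hy hy (h.trans (map_zero _).symm))⟩
      rw [e]
      exact @IsClosed.inter X _ _ (constructibleTopology X) (SpecSp50.isClosed_cons_of_qc hVo hVc)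
        (SpecSp50.isClosed_cons_of_isClosed N.2.isClosed_compl)
    let a : I := ⟨closure T, isClosed_closure, dimLT_of_forall_closure fun y hy => by
      obtain ⟨t, ⟨htV, hne⟩, hty⟩ := SpecSp50.exists_specializes_of_mem_closure hT' hy
      exact ⟨t, hty, hG t fun h => hne (germ_eq_zero_of_isZero h htV _)⟩⟩
    obtain ⟨t, ht⟩ := LocCohZ46.exists_suppι (O a) G V' s' (eq_of_germ_eq G fun y hy => by
      refine (germ_rs G (inf_le_left : V' ⊓ O a ≤ V') y hy s').trans (Eq.trans ?_ (map_zero _).symm)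
      by_contra hne
      exact hy.2 (subset_closure ⟨hy.1, hne⟩))
    exact ⟨V', hVW, hxV, a, t, ht⟩
  · refine subsingleton_E_of_supported_closed hT a.2.1 a.2.2 _ (fun x hx => ?_) q (by omega)
    have : Subsingleton (CohTop.stalk (CohCx.sectSupp (O a) G) x) := subsingleton_of_forall_eq 0 fun s => by
      obtain ⟨V, hxV, t, rfl⟩ := TopCat.Presheaf.exists_germ_eq (CohCx.sectSupp (O a) G).obj s
      have hz : rs (CohCx.sectSupp (O a) G).obj (inf_le_left : V ⊓ O a ≤ V) t = 0 := by
        refine LocCohZ46.suppι_injective (O a) G _ ?_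
        refine ((kernel.ι (LocCohZ46.unitU (O a) G)).hom.naturality_apply _ t).trans ?_
        exact (LocCohZ46.suppι_res (O a) G V t).trans (map_zero _).symm
      exact ((germ_rs _ (inf_le_left : V ⊓ O a ≤ V) x ⟨hxV, hx⟩ t).symm.trans (congrArg _ hz)).trans
        (map_zero _)
    exact AddCommGrpCat.isZero_of_subsingleton _

end Groth.Agent.SpecVan49
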